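import Cfsg.Agent.H846.Elim.PSUd
import Cfsg.Agent.S1577
import Cfsg.Agent.Schreier.CoTwoStab
import Cfsg.Agent.Leech.FrameAux

/-!
# `Cond` fails for `Co₂` (helper846)

`PSU_6(2) ≤ Co₂` has an element of order 3 whose centraliser has order divisible by `3^6` and `2^5`.
-/

set_option autoImplicit false

namespace Cfsg.Agent.H846.Elim.Co2

open Subgroup Cfsg

theorem exists_hom (F : Type) [Field F] [Fintype F] (hF : Fintype.card F = 4) :
    ∃ f : PSU 6 F 2 →* Cfsg.Spor.Co2, Function.Injective f := by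
  let v : leechLattice := ⟨_, Leech.FrameAux.four_four_mem none (some 0) 1 (Or.inl rfl)⟩
  let w : leechLattice := ⟨_, Leech.FrameAux.four_four_mem (some 1) none (-1) (Or.inr rfl)⟩
  have hv : sqNorm (v : GolayPt → ℤ) = 32 := by
    change sqNorm (Pi.single none 4 + Pi.single (some 0) (4 * 1) : GolayPt → ℤ) = 32
    decide +kernel
  have hw : sqNorm (w : GolayPt → ℤ) = 32 := by
    change sqNorm (Pi.single (some 1) 4 + Pi.single none (4 * (-1)) : GolayPt → ℤ) = 32
    decide +kernel
  have hd : dotInt (v : GolayPt → ℤ) (w : GolayPt → ℤ) = -16 := by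
    change dotInt (Pi.single none 4 + Pi.single (some 0) (4 * 1) : GolayPt → ℤ)
      (Pi.single (some 1) 4 + Pi.single none (4 * (-1)) : GolayPt → ℤ) = -16
    decide +kernel
  obtain ⟨e⟩ := S1577.result v w hv hw hd F hF
  obtain ⟨e'⟩ := Schreier.CoTwoStab.exists_equiv v hv
  refine ⟨e'.toMonoidHom.comp ((Subgroup.inclusion inf_le_left).comp e.symm.toMonoidHom), ?_⟩
  exact e'.injective.comp ((Subgroup.inclusion_injective inf_le_left).comp e.symm.injective)

theorem card_dvd {G H : Type*} [Group G] [Group H] {f : G →* H} (hf : Function.Injective f) (z : G) :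
    Nat.card (centralizer ({z} : Set G)) ∣ Nat.card (centralizer ({f z} : Set H)) := by
  have h1 : (centralizer ({z} : Set G)).map f ≤ centralizer ({f z} : Set H) := by
    rintro _ ⟨x, hx, rfl⟩
    rw [mem_centralizer_singleton_iff, ← map_mul, ← map_mul, mem_centralizer_singleton_iff.1 hx]
  rw [← Subgroup.card_map_of_injective hf]
  exact Subgroup.card_dvd_of_le h1

theorem not_co2 {K : Type*} [Group K] (hK : Cond K) (h : Cfsg.Spor.IsoCo2 K) : False := by
  obtain ⟨e⟩ := h
  have hK' := hK.congr e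
  obtain ⟨F, _, _, hF⟩ : ∃ (F : Type) (_ : Field F) (_ : Fintype F), Fintype.card F = 2 ^ 2 := by
    have : Fact (Nat.Prime 2) := ⟨Nat.prime_two⟩
    let _ : Fintype (GaloisField 2 2) := Fintype.ofFinite _
    refine ⟨GaloisField 2 2, inferInstance, inferInstance, ?_⟩
    rw [← Nat.card_eq_fintype_card, GaloisField.card 2 2 (by norm_num)]
  obtain ⟨f, hf⟩ := exists_hom F hF
  obtain ⟨z, hz1, hz3, h3, h2⟩ := PSU.exists_z hF
  refine hK'.cz2 (f z) (fun h => hz1 (hf (h.trans (map_one f).symm))) (by rw [← map_pow, hz3, map_one])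
    (h3.trans (card_dvd hf z)) (h2.trans (card_dvd hf z))

end Cfsg.Agent.H846.Elim.Co2
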