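import Cfsg.Agent.H846.Elim.ExcTE6
import Cfsg.Agent.Cit.HexD4
import Cfsg.Agent.LFourB.RBStd
import Cfsg.Agent.ChevalleyStructure.TwD4Card
import Cfsg.Agent.ChevalleyStructure.D4Perfect

/-!
# `Cond` fails for `³D₄(q)` (helper846)
-/

set_option autoImplicit false

namespace Cfsg.Agent.H846.Elim.Exc

open Subgroup Val Cfsg Cfsg.Lie
open Cfsg.Agent.ChevalleyStructure
open Cfsg.Agent.Lib.SL2Mat (up)

theorem not_d4 {G : Type*} [Group G] (hK : Cond G) {K : Type} [Field K] [Fintype K] {q : ℕ} (hq : IsPrimePow q)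
    (hF : Fintype.card K = q ^ 3) (e : G ≃* twistedD4 K q) : False := by
  obtain ⟨h3, h9⟩ := d4 hK hq hF e
  have hq2 : 2 ≤ q := hq.two_le
  obtain ⟨φ, hφ⟩ := D4Fixed.exists_frob hq hF
  let f : SL2 K →* ↥(twistedD4 K q) := (Cit.HexD4.pb0 φ).codRestrict (twistedD4 K q) (Cit.HexD4.pb0_mem hφ)
  have hf1 : f ≠ 1 := by
    intro h
    have h1 := congrArg Subtype.val (DFunLike.congr_fun h (up (1 : K)))
    change Cit.HexD4.pb0 φ (up (1 : K)) = 1 at h1
    rw [Cit.HexD4.pb0_up, ← D4Perfect.X_zero (φ := φ)] at h1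
    exact one_ne_zero (TwD4Card.X_inj h1)
  refine no27_SL2 (hK.congr e) (F := K) ?_ ?_ f ?_
  · rw [hF, Nat.pow_mod]
    have : q % 3 = 1 ∨ q % 3 = 2 := by omega
    rcases this with h | h <;> rw [h] <;> norm_num
  · rw [hF, ← pow_mul, show 3 * 2 = 2 * 3 from rfl, v_even h3 hq2 (k := 3) (by norm_num), h9, v_three]
  · intro c hc
    have hn := LFourB.RB.sl_normal (F := K) ?_ f.ker
    · rcases hn with h | h
      · have h1 : c ∈ center (SL2 K) := h hc
        rw [Matrix.SpecialLinearGroup.mem_center_iff] at h1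
        obtain ⟨r, hr, h2⟩ := h1
        rw [Fintype.card_fin] at hr
        have h3 : r = 1 ∨ r = -1 := by
          rw [sq] at hr
          exact mul_self_eq_one_iff.1 hr
        rcases h3 with rfl | rfl
        · left
          apply Subtype.ext
          rw [← h2]
          simp
        · right
          apply Subtype.ext
          rw [← h2]
          ext i j
          fin_cases i <;> fin_cases j <;> simp
      · exact absurd ((MonoidHom.ker_eq_top_iff).1 h) hf1
    · rw [hF]
      have : 2 ^ 3 ≤ q ^ 3 := Nat.pow_le_pow_left hq2 3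
      omega

end Cfsg.Agent.H846.Elim.Exc
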