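import Cfsg.Agent.H846.Frame0
import Cfsg.Agent.CpAutHN.Pairs

/-!
# `Cond` fails for `HN` (helper846)

`A₁₂ ≤ HN` has a quaternion group acting freely on the elementary abelian group of order 81 generated by four disjoint
3-cycles.
-/

set_option autoImplicit false

namespace Cfsg.Agent.H846.Elim.HN

open Subgroup Cfsg
open Cfsg.Agent.CpAutHN.Alt (A12 Φ Φ_inj)

abbrev P12 := Equiv.Perm (Fin 12)

/-- the 3-cycles -/
def cc : Fin 4 → P12 := ![Equiv.swap 0 1 * Equiv.swap 1 2, Equiv.swap 3 4 * Equiv.swap 4 5,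
  Equiv.swap 6 7 * Equiv.swap 7 8, Equiv.swap 9 10 * Equiv.swap 10 11]

def pI : P12 := Equiv.swap 0 3 * (Equiv.swap 1 4 * Equiv.swap 4 2 * Equiv.swap 2 5) *
  (Equiv.swap 6 9 * (Equiv.swap 7 10 * Equiv.swap 10 8 * Equiv.swap 8 11))

def pJ : P12 := Equiv.swap 0 6 * (Equiv.swap 1 7 * Equiv.swap 7 2 * Equiv.swap 2 8) *
  (Equiv.swap 3 9 * (Equiv.swap 4 11 * Equiv.swap 11 5 * Equiv.swap 5 10))

theorem cc_mem : ∀ i, cc i ∈ alternatingGroup (Fin 12) := by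
  simp only [Equiv.Perm.mem_alternatingGroup]
  decide +kernel

theorem pI_mem : pI ∈ alternatingGroup (Fin 12) := by
  rw [Equiv.Perm.mem_alternatingGroup]
  decide +kernel

theorem pJ_mem : pJ ∈ alternatingGroup (Fin 12) := by
  rw [Equiv.Perm.mem_alternatingGroup]
  decide +kernel

theorem cc_cube : ∀ i, cc i ^ 3 = 1 := by decide +kernel
theorem cc_comm : ∀ i j, cc i * cc j = cc j * cc i := by decide +kernel
theorem cc_inj : ∀ a b c d : ZMod 3, cc 0 ^ a.val * cc 1 ^ b.val * cc 2 ^ c.val * cc 3 ^ d.val = 1 →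
    a = 0 ∧ b = 0 ∧ c = 0 ∧ d = 0 := by decide +kernel
theorem pI_rel : pI * cc 0 = cc 1 * pI ∧ pI * cc 1 = (cc 0)⁻¹ * pI ∧ pI * cc 2 = cc 3 * pI ∧
    pI * cc 3 = (cc 2)⁻¹ * pI := by decide +kernel
theorem pJ_rel : pJ * cc 0 = cc 2 * pJ ∧ pJ * cc 2 = (cc 0)⁻¹ * pJ ∧ pJ * cc 1 = (cc 3)⁻¹ * pJ ∧
    pJ * cc 3 = cc 1 * pJ := by decide +kernel

/-- the images in `HN` -/
noncomputable def xx (i : Fin 4) : Cfsg.Spor.HN := Φ ⟨cc i, cc_mem i⟩

theorem xx_four : Four0 xx where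
  cube i := by
    unfold xx
    rw [← map_pow]
    have : (⟨cc i, cc_mem i⟩ : A12) ^ 3 = 1 := Subtype.ext (cc_cube i)
    rw [this, map_one]
  comm i j := by
    unfold xx
    rw [← map_mul, ← map_mul]
    exact congrArg Φ (Subtype.ext (cc_comm i j))
  inj v hv := by
    unfold Four.f xx at hv
    rw [← map_pow, ← map_pow, ← map_pow, ← map_pow, ← map_mul, ← map_mul, ← map_mul] at hv
    have h1 := congrArg Subtype.val (Φ_inj (hv.trans (map_one Φ).symm))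
    obtain ⟨h0, h1, h2, h3⟩ := cc_inj _ _ _ _ h1
    funext i
    fin_cases i
    · exact h0
    · exact h1
    · exact h2
    · exact h3

theorem conj_eq {a b p : A12} (h : p * a = b * p) : MulAut.conj (Φ p) (Φ a) = Φ b := by
  rw [MulAut.conj_apply, ← map_mul, h, map_mul, mul_assoc, mul_inv_cancel, mul_one]

theorem conj_eq' {a b p : A12} (h : p * a = b⁻¹ * p) : MulAut.conj (Φ p) (Φ a) = (Φ b)⁻¹ := by
  rw [MulAut.conj_apply, ← map_mul, h, map_mul, mul_assoc, mul_inv_cancel, mul_one, map_inv]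

theorem not_hn' (hK : Cond Cfsg.Spor.HN) : False := by
  obtain ⟨a1, a2, a3, a4⟩ := pI_rel
  obtain ⟨b1, b2, b3, b4⟩ := pJ_rel
  refine xx_four.contra_quat hK (I := MulAut.conj (Φ ⟨pI, pI_mem⟩)) (J := MulAut.conj (Φ ⟨pJ, pJ_mem⟩))
    ?_ ?_ ?_ ?_ ?_ ?_ ?_ ?_
  · exact conj_eq (Subtype.ext a1)
  · exact conj_eq' (Subtype.ext a2)
  · exact conj_eq (Subtype.ext a3)
  · exact conj_eq' (Subtype.ext a4)
  · exact conj_eq (Subtype.ext b1)
  · exact conj_eq' (Subtype.ext b2)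
  · exact conj_eq' (Subtype.ext b3)
  · exact conj_eq (Subtype.ext b4)

theorem not_hn {K : Type*} [Group K] (hK : Cond K) (h : Cfsg.Spor.IsoHN K) : False := by
  obtain ⟨e⟩ := h
  exact not_hn' (hK.congr e)

end Cfsg.Agent.H846.Elim.HN
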