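import Cfsg.Agent.H846.Elim.PSLf
import Cfsg.Agent.S0245
import Cfsg.Agent.S0246

/-!
# `Cond` fails for `PSp_{2m}(q)` (helper846)
-/

set_option autoImplicit false

namespace Cfsg.Agent.H846.Elim.PSp

open Subgroup Matrix Val
open Cfsg.Agent.Sigma.Symp (emb)

variable {F : Type*} [Field F]

/-- extension by 1 -/
def ext (k m : ℕ) (M : Type*) [Group M] : (Fin k → M) →* (Fin m → M) where
  toFun g i := if h : (i : ℕ) < k then g ⟨i, h⟩ else 1
  map_one' := by
    funext i
    split_ifs <;> rfl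
  map_mul' a b := by
    funext i
    simp only [Pi.mul_apply]
    split_ifs
    · rfl
    · rw [mul_one]

theorem ext_apply {k m : ℕ} {M : Type*} [Group M] (g : Fin k → M) (i : Fin k) (h : (i : ℕ) < m) :
    ext k m M g ⟨i, h⟩ = g i := by
  change (if h : (i : ℕ) < k then g ⟨i, h⟩ else 1) = _
  rw [dif_pos i.2]

/-- the homomorphism -/
def ff (k m : ℕ) (F : Type*) [Field F] : (Fin k → SL2 F) →* PSp m F :=
  (QuotientGroup.mk' _).comp ((emb m F).comp (ext k m (SL2 F)))

theorem ff_ker {k m : ℕ} (hm : 1 ≤ m) (hkm : k ≤ m) {g : Fin k → SL2 F} (h : ff k m F g = 1) :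
    ∃ a : F, a * a = 1 ∧ ∀ i, (g i : Matrix (Fin 2) (Fin 2) F) = a • 1 := by
  have h1 : emb m F (ext k m (SL2 F) g) ∈ center (symplecticGroup (Fin m) F) := (QuotientGroup.eq_one_iff _).1 h
  obtain ⟨a, ha⟩ := (LieClassical.SympCenter.mem_center_iff m _).1 h1
  have h2 : a * a = 1 := LieClassical.SympCenter.sq_eq_one_of_smul_mem hm (ha ▸ (emb m F _).2)
  refine ⟨a, h2, ?_⟩
  intro i
  have h3 : fromBlocks (diagonal fun i => ext k m (SL2 F) g i 0 0) (diagonal fun i => ext k m (SL2 F) g i 0 1)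
      (diagonal fun i => ext k m (SL2 F) g i 1 0) (diagonal fun i => ext k m (SL2 F) g i 1 1) =
      fromBlocks (a • 1) 0 0 (a • (1 : Matrix (Fin m) (Fin m) F)) := by
    have h4 : fromBlocks (a • 1) 0 0 (a • (1 : Matrix (Fin m) (Fin m) F)) = a • (1 : Matrix (Fin m ⊕ Fin m) (Fin m ⊕ Fin m) F) := by
      rw [← fromBlocks_one, fromBlocks_smul, smul_zero]
    rw [h4]
    exact ha
  rw [fromBlocks_inj] at h3
  obtain ⟨ha, hb, hc, hd⟩ := h3
  have hi : (i : ℕ) < m := lt_of_lt_of_le i.2 hkm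
  have e0 := congrFun (congrFun ha ⟨i, hi⟩) ⟨i, hi⟩
  have e1 := congrFun (congrFun hb ⟨i, hi⟩) ⟨i, hi⟩
  have e2 := congrFun (congrFun hc ⟨i, hi⟩) ⟨i, hi⟩
  have e3 := congrFun (congrFun hd ⟨i, hi⟩) ⟨i, hi⟩
  simp only [diagonal_apply_eq, ext_apply, Matrix.smul_apply, one_apply_eq, smul_eq_mul, mul_one,
    Matrix.zero_apply] at e0 e1 e2 e3
  ext x y
  fin_cases x <;> fin_cases y
  · simpa using e0
  · simpa using e1
  · simpa using e2
  · simpa using e3

theorem ff_single {k m : ℕ} (hm : 1 ≤ m) (hkm : k ≤ m) {i : Fin k} {c : SL2 F}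
    (h : ff k m F (Pi.mulSingle i c) = 1) : c = 1 ∨ c = -1 := by
  obtain ⟨a, ha, h1⟩ := ff_ker hm hkm h
  have h2 := h1 i
  rw [Pi.mulSingle_eq_same] at h2
  rcases mul_self_eq_one_iff.1 ha with rfl | rfl
  · left
    apply Subtype.ext
    change (c : Matrix (Fin 2) (Fin 2) F) = 1
    rw [h2, one_smul]
  · right
    apply Subtype.ext
    change (c : Matrix (Fin 2) (Fin 2) F) = -1
    rw [h2, neg_smul, one_smul]

theorem v_eq {K : Type*} [Group K] (hK : Cond K) {F : Type*} [Field F] [Fintype F] {m : ℕ} (hm : 1 ≤ m)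
    (e : K ≃* PSp m F) :
    6 = m ^ 2 * v (Fintype.card F) + ∑ i ∈ Finset.range m, v (Fintype.card F ^ (2 * (i + 1)) - 1) := by
  have hq : 2 ≤ Fintype.card F := Fintype.one_lt_card
  have h1 := S0245.result (F := F) rfl m
  have h2 := S0246.result (F := F) rfl m hm
  have h3 := (hK.congr e).v_card
  have h4 := (hK.congr e).fin
  have h5 := card_eq_card_quotient_mul_card_subgroup (center (symplecticGroup (Fin m) F))
  have h6 : Nat.card (PSp m F) ≠ 0 := Nat.card_pos.ne'
  have h7 : Nat.gcd 2 (Fintype.card F - 1) ≠ 0 := by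
    intro h
    have := Nat.eq_zero_of_gcd_eq_zero_left h
    omega
  have h8 : v (Nat.gcd 2 (Fintype.card F - 1)) = 0 := by
    apply v_of_not
    intro h
    have := (Nat.dvd_of_mod_eq_zero h).trans (Nat.gcd_dvd_left 2 (Fintype.card F - 1))
    omega
  have h9 : ∀ i ∈ Finset.range m, Fintype.card F ^ (2 * (i + 1)) - 1 ≠ 0 := fun i _ => sub_ne hq (by omega)
  rw [h1, h2] at h5
  have h10 := congrArg v h5
  rw [v_mul (pow_ne_zero _ (by omega)) (Finset.prod_ne_zero_iff.2 h9), v_mul h6 h7, h3, h8, v_pow,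
    v_prod _ _ h9] at h10
  omega

/-- no `PSp_2m(q)` -/
theorem not {K : Type*} [Group K] (hK : Cond K) (h : Cfsg.IsPSp K) : False := by
  obtain ⟨F, _, _, m, hm, -, ⟨e⟩⟩ := h
  have hq : 2 ≤ Fintype.card F := Fintype.one_lt_card
  rcases Nat.lt_or_ge m 5 with hm5 | hm5
  · have hv := v_eq hK (by omega) e
    by_cases h3 : Fintype.card F % 3 = 0
    · have h1 : ∀ i ∈ Finset.range m, v (Fintype.card F ^ (2 * (i + 1)) - 1) = 0 := fun i _ =>
        v_sub_three h3 hq (by omega)
      rw [Finset.sum_eq_zero h1, add_zero] at hv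
      interval_cases m <;> omega
    · have h0 : v (Fintype.card F) = 0 := v_of_not h3
      have h1 : ∀ i ∈ Finset.range m, v (Fintype.card F ^ (2 * (i + 1)) - 1) =
          v (Fintype.card F ^ 2 - 1) + v (i + 1) := fun i _ => v_even h3 hq (by omega)
      rw [Finset.sum_congr rfl h1, h0, mul_zero, zero_add] at hv
      interval_cases m
      · rw [Finset.sum_range_succ, Finset.sum_range_one, zero_add, v_one, show 1 + 1 = 2 from rfl, v_two] at hv
        refine no27_SL2 (F := F) (hK.congr e) h3 (by omega)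
          ((ff 2 2 F).comp (MonoidHom.mulSingle (fun _ : Fin 2 => SL2 F) 0)) ?_
        intro c hc
        exact ff_single (by norm_num) le_rfl hc
      · rw [Finset.sum_range_succ, Finset.sum_range_succ, Finset.sum_range_one, zero_add, v_one,
          show 1 + 1 = 2 from rfl, v_two, show 2 + 1 = 3 from rfl, v_three] at hv
        omega
      · rw [Finset.sum_range_succ, Finset.sum_range_succ, Finset.sum_range_succ, Finset.sum_range_one, zero_add, v_one,
          show 1 + 1 = 2 from rfl, v_two, show 2 + 1 = 3 from rfl, v_three, show 3 + 1 = 4 from rfl, v_four] at hv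
        omega
  · exact pi5 (hK.congr e) (ff 5 m F) fun i c hc => ff_single (by omega) hm5 hc

end Cfsg.Agent.H846.Elim.PSp
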