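import Cfsg.Agent.H846.Elim.Basic
import Cfsg.Agent.NotCT.Orders

/-!
# `Cond` and the orders of the sporadic groups (helper846)
-/

set_option autoImplicit false

namespace Cfsg.Agent.H846.Elim.Spor

open Cfsg

variable {K : Type*} [Group K]

/-- by the order, a sporadic group with `Cond` is `McL`, `Co₂` or `HN` -/
theorem three (hK : Cond K) (h : IsSporadicGroup K) : Spor.IsoMcL K ∨ Spor.IsoCo2 K ∨ Spor.IsoHN K := by
  have hfin := hK.fin
  have key : ∀ n : ℕ, Nat.card K = n → (3 ^ 6 ∣ n ∧ ¬ 3 ^ 7 ∣ n) := fun n hn => hn ▸ ⟨hK.card6, hK.card7⟩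
  rcases h with h | h | h | h | h | h | h | h | h | h | h | h | h | h | h | h | h | h | h | h | h | h | h | h | h | h
  · exact absurd (key _ (NotCT.Orders.m11 h)) (by norm_num)
  · exact absurd (key _ (NotCT.Orders.m12 h)) (by norm_num)
  · exact absurd (key _ (NotCT.Orders.m22 h)) (by norm_num)
  · exact absurd (key _ (NotCT.Orders.m23 h)) (by norm_num)
  · exact absurd (key _ (NotCT.Orders.m24 h)) (by norm_num)
  · exact absurd (key _ (NotCT.Orders.j1 h)) (by norm_num)
  · exact absurd (key _ (NotCT.Orders.j2 h)) (by norm_num)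
  · exact absurd (key _ (NotCT.Orders.j3 h)) (by norm_num)
  · exact absurd (key _ (NotCT.Orders.j4 h)) (by norm_num)
  · exact absurd (key _ (NotCT.Orders.co1 h)) (by norm_num)
  · exact Or.inr (Or.inl h)
  · exact absurd (key _ (NotCT.Orders.co3 h)) (by norm_num)
  · exact Or.inl h
  · exact absurd (key _ (NotCT.Orders.hs h)) (by norm_num)
  · exact absurd (key _ (NotCT.Orders.suz h)) (by norm_num)
  · exact absurd (key _ (NotCT.Orders.he h)) (by norm_num)
  · exact absurd (key _ (NotCT.Orders.ru h)) (by norm_num)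
  · exact absurd (key _ (NotCT.Orders.on h)) (by norm_num)
  · exact absurd (key _ (NotCT.Orders.ly h)) (by norm_num)
  · exact absurd (key _ (NotCT.Orders.fi22 h)) (by norm_num)
  · exact absurd (key _ (NotCT.Orders.fi23 h)) (by norm_num)
  · exact absurd (key _ (NotCT.Orders.fi24 h)) (by norm_num)
  · exact Or.inr (Or.inr h)
  · exact absurd (key _ (NotCT.Orders.th h)) (by norm_num)
  · exact absurd (key _ (NotCT.Orders.b h)) (by norm_num)
  · exact absurd (key _ (NotCT.Orders.m h)) (by norm_num)

end Cfsg.Agent.H846.Elim.Spor
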