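import Cfsg.Agent.H846.Elim.Alt
import Cfsg.Agent.H846.Elim.PSp
import Cfsg.Agent.H846.Elim.ExcD4
import Cfsg.Agent.H846.Elim.Spor
import Cfsg.Agent.H846.Elim.HN
import Cfsg.Agent.H846.Elim.Co2
import Cfsg.Agent.S0000

/-!
# The simple groups with `Cond` are `McL` (helper846)
-/

set_option autoImplicit false

namespace Cfsg.Agent.H846.Elim

open Subgroup Cfsg

/-- a known simple group with `Cond` is `McL` -/
theorem known {K : Type*} [Group K] (hK : Cond K) (h : IsKnownSimple' K) : Cfsg.Spor.IsoMcL K := by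
  rcases h with h | h | h | h | h | h | h | h | h | h
  · exact (cyc hK h).elim
  · obtain ⟨n, -, ⟨e⟩⟩ := h
    exact (alt hK e).elim
  · exact (PSL.not hK h).elim
  · exact (PSp.not hK h).elim
  · exact (PSU.not hK h).elim
  · exact (Om.not_odd hK h).elim
  · exact (Om.not_plus hK h).elim
  · exact (Om.not_minus hK h).elim
  · exfalso
    rcases h with h | h | h | h | h | h | h | h | h | h | h
    · exact Exc.g2 hK h
    · obtain ⟨F, _, _, ⟨e⟩⟩ := h
      exact Exc.not_f4 hK e
    · obtain ⟨F, _, _, ⟨e⟩⟩ := h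
      exact Exc.not_e6 hK e
    · exact Exc.e7 hK h
    · exact Exc.e8 hK h
    · obtain ⟨F, _, _, q, hq, hF, ⟨e⟩⟩ := h
      exact Exc.not_te6 hK hq hF e
    · obtain ⟨F, _, _, q, hq, hF, ⟨e⟩⟩ := h
      exact Exc.not_d4 hK hq hF e
    · exact Exc.sz hK h
    · exact Exc.ree hK h
    · exact Exc.tf4 hK h
    · exact Exc.tits hK h
  · rcases Spor.three hK h with h | h | h
    · exact h
    · exact (Co2.not_co2 hK h).elim
    · exact (HN.not_hn hK h).elim

/-- a simple group with `Cond` is `McL` -/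
theorem simple {K : Type*} [Group K] [IsSimpleGroup K] (hK : Cond K) : Cfsg.Spor.IsoMcL K := by
  have := hK.fin
  exact known hK S0000.result

end Cfsg.Agent.H846.Elim
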