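import Cfsg.Agent.H846.Elim.Basic

/-!
# `Cond` fails for the alternating groups and the groups of prime order (helper846)
-/

set_option autoImplicit false

namespace Cfsg.Agent.H846.Elim

open Subgroup Equiv

theorem cyc {K : Type*} [Group K] (hK : Cond K) (h : (Nat.card K).Prime) : False := by
  have h1 := hK.card6
  have h2 : (3 : ℕ) ∣ Nat.card K := (by norm_num : (3 : ℕ) ∣ 3 ^ 6).trans h1
  have h3 := (Nat.prime_dvd_prime_iff_eq Nat.prime_three h).1 h2
  rw [← h3] at h1
  exact absurd h1 (by norm_num)

namespace Alt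

abbrev P15 := Perm (Fin 15)

def c (i : Fin 5) : P15 :=
  match i with
  | 0 => swap 0 1 * swap 1 2
  | 1 => swap 3 4 * swap 4 5
  | 2 => swap 6 7 * swap 7 8
  | 3 => swap 9 10 * swap 10 11
  | 4 => swap 12 13 * swap 13 14

def t (i : Fin 5) : P15 :=
  match i with
  | 0 => swap 0 1
  | 1 => swap 3 4
  | 2 => swap 6 7
  | 3 => swap 9 10
  | 4 => swap 12 13

theorem c_sq : ∀ i, c i = (c i * c i) * (c i * c i) := by decide
theorem c_cube : ∀ i, c i ^ 3 = 1 := by decide
theorem c_comm : ∀ i j, c i * c j = c j * c i := by decide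
theorem t_fix : ∀ i j, i ≠ j → t i * c j = c j * t i := by decide
theorem t_move : ∀ i, t i * c i ≠ c i * t i := by decide

variable (n : ℕ) (hn : 15 ≤ n)

/-- the embedding of the symmetric groups -/
noncomputable def emb : P15 →* Perm (Fin n) := Perm.viaEmbeddingHom (Fin.castLEEmb hn)

theorem emb_inj : Function.Injective (emb n hn) := Perm.viaEmbeddingHom_injective _

/-- the three-cycles in the alternating group -/
noncomputable def x (i : Fin 5) : alternatingGroup (Fin n) := ⟨emb n hn (c i), by
  rw [Equiv.Perm.mem_alternatingGroup, c_sq, map_mul, map_mul, map_mul, map_mul]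
  simp [Int.units_mul_self]⟩

noncomputable def θ (i : Fin 5) : MulAut (alternatingGroup (Fin n)) := MulAut.conjNormal (emb n hn (t i))

theorem θ_apply (i : Fin 5) (y : alternatingGroup (Fin n)) :
    ((θ n hn i y : alternatingGroup (Fin n)) : Perm (Fin n)) = emb n hn (t i) * y * (emb n hn (t i))⁻¹ :=
  MulAut.conjNormal_apply _ _

theorem fix {i j : Fin 5} (h : i ≠ j) : θ n hn i (x n hn j) = x n hn j := by
  apply Subtype.ext
  rw [θ_apply]
  change emb n hn (t i) * emb n hn (c j) * (emb n hn (t i))⁻¹ = emb n hn (c j)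
  rw [← map_mul, t_fix i j h, map_mul, mul_assoc, mul_inv_cancel, mul_one]

theorem move (i : Fin 5) : θ n hn i (x n hn i) ≠ x n hn i := by
  intro h
  have h1 := congrArg Subtype.val h
  rw [θ_apply] at h1
  change emb n hn (t i) * emb n hn (c i) * (emb n hn (t i))⁻¹ = emb n hn (c i) at h1
  rw [mul_inv_eq_iff_eq_mul, ← map_mul, ← map_mul] at h1
  exact t_move i (emb_inj n hn h1)

theorem four : Four (fun i : Fin 4 => x n hn i.castSucc) (fun i => θ n hn i.castSucc) where
  cube i := Subtype.ext (by
    change (emb n hn (c i.castSucc)) ^ 3 = 1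
    rw [← map_pow, c_cube, map_one])
  comm i j := Subtype.ext (by
    change emb n hn (c i.castSucc) * emb n hn (c j.castSucc) = emb n hn (c j.castSucc) * emb n hn (c i.castSucc)
    rw [← map_mul, ← map_mul, c_comm])
  fix i j h := fix n hn (fun h' => h (Fin.castSucc_injective _ h'))
  move i := move n hn _

end Alt

theorem alt {K : Type*} [Group K] (hK : Cond K) {n : ℕ} (e : K ≃* alternatingGroup (Fin n)) : False := by
  have hA := hK.congr e
  rcases Nat.lt_or_ge n 15 with hn | hn
  · -- the order
    have h1 := hA.card6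
    have h2 : 2 * Nat.card (alternatingGroup (Fin n)) ∣ 2 * Nat.factorial n := by
      rcases Nat.lt_or_ge n 2 with h | h
      · have : Subsingleton (Fin n) := ⟨fun a b => Fin.ext (by omega)⟩
        have hs : Nat.card (alternatingGroup (Fin n)) = 1 := by
          have : Subsingleton (Perm (Fin n)) := inferInstance
          exact Nat.card_of_subsingleton 1
        rw [hs]
        exact ⟨Nat.factorial n, by ring⟩
      · have : Nontrivial (Fin n) := Fin.nontrivial_iff_two_le.2 h
        rw [two_mul_nat_card_alternatingGroup, Nat.card_perm, Nat.card_fin]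
        exact dvd_mul_left _ _
    have h3 : 3 ^ 6 ∣ 2 * Nat.factorial n := (h1.trans (dvd_mul_left _ 2)).trans h2
    have h4 : 3 ^ 6 ∣ 2 * Nat.factorial 14 :=
      h3.trans (Nat.mul_dvd_mul_left 2 (Nat.factorial_dvd_factorial (by omega)))
    exact absurd h4 (by norm_num [Nat.factorial])
  · refine (Alt.four n hn).contra hA (y := Alt.x n hn 4) (φ := Alt.θ n hn 4) ?_ ?_ (Alt.move n hn 4)
    · intro i
      apply Subtype.ext
      change Alt.emb n hn (Alt.c 4) * Alt.emb n hn (Alt.c i.castSucc) = Alt.emb n hn (Alt.c i.castSucc) * Alt.emb n hn (Alt.c 4)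
      rw [← map_mul, ← map_mul, Alt.c_comm]
    · intro i
      exact Alt.fix n hn (fun h => by
        have := congrArg Fin.val h
        simp at this
        omega)

end Cfsg.Agent.H846.Elim
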