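import Mathlib

/-!
# 3-adic valuations of `q ^ k ± 1` (helper846)
-/

set_option autoImplicit false

namespace Cfsg.Agent.H846.Val

instance : Fact (Nat.Prime 3) := ⟨Nat.prime_three⟩

abbrev v (n : ℕ) : ℕ := padicValNat 3 n

theorem v_mul {a b : ℕ} (ha : a ≠ 0) (hb : b ≠ 0) : v (a * b) = v a + v b := padicValNat.mul ha hb

theorem v_of_not {n : ℕ} (h : n % 3 ≠ 0) : v n = 0 :=
  padicValNat.eq_zero_of_not_dvd (fun h' => h (Nat.mod_eq_zero_of_dvd h'))

theorem v_pow (a n : ℕ) : v (a ^ n) = n * v a := padicValNat.pow a n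

theorem dvd_iff {n k : ℕ} (hn : n ≠ 0) : 3 ^ k ∣ n ↔ k ≤ v n := padicValNat_dvd_iff_le hn

theorem v_eq {n k : ℕ} (h1 : 3 ^ k ∣ n) (h2 : ¬ 3 ^ (k + 1) ∣ n) (hn : n ≠ 0) : v n = k := by
  rw [dvd_iff hn] at h1 h2
  omega

theorem v_three : v 3 = 1 := by simp [v]

theorem v_mul_three {n : ℕ} (hn : n ≠ 0) : v (3 * n) = 1 + v n := by
  rw [v_mul (by norm_num) hn, v_three]

theorem v_one : v 1 = 0 := v_of_not (by norm_num)
theorem v_two : v 2 = 0 := v_of_not (by norm_num)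
theorem v_four : v 4 = 0 := v_of_not (by norm_num)
theorem v_five : v 5 = 0 := v_of_not (by norm_num)
theorem v_six : v 6 = 1 := by rw [show 6 = 3 * 2 from rfl, v_mul_three (by norm_num), v_two]
theorem v_seven : v 7 = 0 := v_of_not (by norm_num)
theorem v_eight : v 8 = 0 := v_of_not (by norm_num)
theorem v_nine : v 9 = 2 := by rw [show 9 = 3 * 3 from rfl, v_mul_three (by norm_num), v_three]
theorem v_ten : v 10 = 0 := v_of_not (by norm_num)

theorem mod_one_pow {q k : ℕ} (hq : q % 3 = 1) : q ^ k % 3 = 1 := by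
  simp [Nat.pow_mod, hq]

theorem mod_two_pow_odd {q k : ℕ} (hq : q % 3 = 2) (hk : k % 2 = 1) : q ^ k % 3 = 2 := by
  obtain ⟨j, rfl⟩ : ∃ j, k = 2 * j + 1 := ⟨k / 2, by omega⟩
  rw [pow_succ, pow_mul, Nat.mul_mod, Nat.pow_mod, Nat.pow_mod q 2, hq]
  norm_num

theorem mod_two_pow_even {q k : ℕ} (hq : q % 3 = 2) (hk : k % 2 = 0) : q ^ k % 3 = 1 := by
  obtain ⟨j, rfl⟩ : ∃ j, k = 2 * j := ⟨k / 2, by omega⟩
  rw [pow_mul, Nat.pow_mod, Nat.pow_mod q 2, hq]
  norm_num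

variable {q : ℕ}

theorem one_lt (hq2 : 2 ≤ q) {k : ℕ} (hk : k ≠ 0) : 1 < q ^ k := Nat.one_lt_pow hk hq2

theorem sub_ne (hq2 : 2 ≤ q) {k : ℕ} (hk : k ≠ 0) : q ^ k - 1 ≠ 0 := by
  have := one_lt hq2 hk
  omega

/-- `a = v (q² - 1)` for `q ≡ 1` -/
theorem v_sub_one (hq : q % 3 = 1) (hq2 : 2 ≤ q) : v (q - 1) = v (q ^ 2 - 1) := by
  have h1 : q ^ 2 - 1 = (q + 1) * (q - 1) := by
    have := Nat.sq_sub_sq q 1
    rwa [one_pow] at this
  rw [h1, v_mul (by omega) (by omega), v_of_not (n := q + 1) (by omega), zero_add]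

theorem v_add_one (hq : q % 3 = 2) : v (q + 1) = v (q ^ 2 - 1) := by
  have h1 : q ^ 2 - 1 = (q + 1) * (q - 1) := by
    have := Nat.sq_sub_sq q 1
    rwa [one_pow] at this
  rw [h1, v_mul (by omega) (by omega), v_of_not (n := q - 1) (by omega), add_zero]

theorem a_pos (hq : q % 3 ≠ 0) (hq2 : 2 ≤ q) : 1 ≤ v (q ^ 2 - 1) := by
  have h1 : q ^ 2 % 3 = 1 := by
    have : q % 3 = 1 ∨ q % 3 = 2 := by omega
    rcases this with h | h
    · exact mod_one_pow h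
    · exact mod_two_pow_even h rfl
  rw [← dvd_iff (sub_ne hq2 (by norm_num)), pow_one]
  have := one_lt hq2 (k := 2) (by norm_num)
  omega

theorem v_even (hq : q % 3 ≠ 0) (hq2 : 2 ≤ q) {k : ℕ} (hk : k ≠ 0) : v (q ^ (2 * k) - 1) = v (q ^ 2 - 1) + v k := by
  have h1 : q ^ 2 % 3 = 1 := by
    have : q % 3 = 1 ∨ q % 3 = 2 := by omega
    rcases this with h | h
    · exact mod_one_pow h
    · exact mod_two_pow_even h rfl
  have h2 := one_lt hq2 (k := 2) (by norm_num)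
  have := padicValNat.pow_sub_pow (p := 3) (x := q ^ 2) (y := 1) (by decide) h2 (by omega) (by omega) hk
  rw [one_pow, ← pow_mul] at this
  exact this

theorem v_any (hq : q % 3 = 1) (hq2 : 2 ≤ q) {k : ℕ} (hk : k ≠ 0) : v (q ^ k - 1) = v (q ^ 2 - 1) + v k := by
  have := padicValNat.pow_sub_pow (p := 3) (x := q) (y := 1) (by decide) (by omega) (by omega) (by omega) hk
  rw [one_pow] at this
  rw [← v_sub_one hq hq2]
  exact this

theorem v_odd (hq : q % 3 = 2) (hq2 : 2 ≤ q) {k : ℕ} (hk : k % 2 = 1) : v (q ^ k - 1) = 0 := by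
  apply v_of_not
  have h1 := mod_two_pow_odd hq hk
  have h2 := one_lt hq2 (k := k) (by omega)
  omega

theorem v_plus_one (hq : q % 3 = 1) {k : ℕ} : v (q ^ k + 1) = 0 := by
  apply v_of_not
  have h1 := mod_one_pow (k := k) hq
  omega

theorem v_plus_even (hq : q % 3 = 2) {k : ℕ} (hk : k % 2 = 0) : v (q ^ k + 1) = 0 := by
  apply v_of_not
  have h1 := mod_two_pow_even hq hk
  omega

theorem v_plus_odd (hq : q % 3 = 2) {k : ℕ} (hk : k % 2 = 1) : v (q ^ k + 1) = v (q ^ 2 - 1) + v k := by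
  have := padicValNat.pow_add_pow (p := 3) (x := q) (y := 1) (by decide) (by omega) (by omega)
    (Nat.odd_iff.2 hk)
  rw [one_pow] at this
  rw [← v_add_one hq]
  exact this

/-- characteristic 3 -/
theorem v_sub_three (hq : q % 3 = 0) (hq2 : 2 ≤ q) {k : ℕ} (hk : k ≠ 0) : v (q ^ k - 1) = 0 := by
  apply v_of_not
  have h1 : q ^ k % 3 = 0 := by simp [Nat.pow_mod, hq, zero_pow hk]
  have h2 := one_lt hq2 hk
  omega

theorem v_add_three (hq : q % 3 = 0) {k : ℕ} (hk : k ≠ 0) : v (q ^ k + 1) = 0 := by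
  apply v_of_not
  have h1 : q ^ k % 3 = 0 := by simp [Nat.pow_mod, hq, zero_pow hk]
  omega

theorem v_zero (hq : q % 3 ≠ 0) (k : ℕ) : v (q ^ k) = 0 := by
  rw [v_pow, v_of_not hq, mul_zero]

end Cfsg.Agent.H846.Val
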