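import Cfsg.Agent.H846.Frame
import Cfsg.Agent.H846.Elim.Val
import Cfsg.Agent.S0262

/-!
# Consequences of `Cond` (helper846)
-/

set_option autoImplicit false

namespace Cfsg.Agent.H846

open Subgroup Val

namespace Cond

variable {K : Type*} [Group K]

theorem v_card (h : Cond K) : v (Nat.card K) = 6 := by
  have := h.fin
  exact v_eq h.card6 h.card7 Nat.card_pos.ne'

theorem no27 (h : Cond K) {x : K} (hx : orderOf x = 27) : False := by
  have h1 : x ^ 27 = 1 := by rw [← hx]; exact pow_orderOf_eq_one x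
  have h2 := orderOf_dvd_of_pow_eq_one (h.exp x h1)
  rw [hx] at h2
  omega

/-- an injective image -/
theorem no27_hom (h : Cond K) {H : Type*} [Group H] (f : H →* K) {x : H} (hx : orderOf x = 27)
    (hf : ∀ n < 27, 0 < n → f (x ^ n) ≠ 1) : False := by
  apply h.no27 (x := f x)
  have h1 : (f x) ^ 27 = 1 := by rw [← map_pow, ← hx, pow_orderOf_eq_one, map_one]
  have h2 : orderOf (f x) ∣ 27 := orderOf_dvd_of_pow_eq_one h1
  have h3 : orderOf (f x) ≤ 27 := Nat.le_of_dvd (by norm_num) h2
  by_contra hne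
  have h4 : orderOf (f x) < 27 := lt_of_le_of_ne h3 hne
  have h5 : 0 < orderOf (f x) := Nat.pos_of_ne_zero (fun h0 => by rw [h0] at h2; omega)
  apply hf _ h4 h5
  rw [map_pow, pow_orderOf_eq_one]

end Cond

/-- 3-subgroups of `SL_2(q)` are cyclic: an element of order 27 -/
theorem exists_27 {F : Type*} [Field F] [Fintype F] (h3 : Fintype.card F % 3 ≠ 0) {H : Type*} [Group H] [Finite H]
    (f : H →* Matrix.SpecialLinearGroup (Fin 2) F) (hf : Function.Injective f) (h27 : 27 ∣ Nat.card H) :
    ∃ x : H, orderOf x = 27 := by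
  classical
  have h3F := Fact.mk Nat.prime_three
  obtain ⟨p, hp⟩ := CharP.exists F
  have hpp : Fact p.Prime := ⟨CharP.char_is_prime F p⟩
  have hp3 : 3 ≠ p := by
    rintro rfl
    obtain ⟨n, hn, hc⟩ := FiniteField.card F 3
    rw [hc] at h3
    apply h3
    have : (3 : ℕ) ∣ 3 ^ (n : ℕ) := dvd_pow_self 3 n.pos.ne'
    exact Nat.mod_eq_zero_of_dvd this
  let P : Sylow 3 H := default
  have hPp : IsPGroup 3 ((P : Subgroup H).map f) := P.isPGroup'.map f
  obtain ⟨R, hR⟩ := hPp.exists_le_sylow
  have hcyc : IsCyclic (R : Subgroup (Matrix.SpecialLinearGroup (Fin 2) F)) :=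
    S0262.result p 3 (by norm_num) hp3 R
  have hcycP : IsCyclic P := by
    let g : P →* R :=
      { toFun := fun x => ⟨f x, hR (mem_map_of_mem f x.2)⟩
        map_one' := Subtype.ext (map_one f)
        map_mul' := fun a b => Subtype.ext (map_mul f (a : H) (b : H)) }
    have hg : Function.Injective g := by
      intro a b hab
      exact Subtype.ext (hf (congrArg Subtype.val hab))
    exact isCyclic_of_injective g hg
  obtain ⟨x, hx⟩ := hcycP.exists_generator
  have hP27 : 3 ^ 3 ∣ Nat.card P := P.pow_dvd_card_of_pow_dvd_card h27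
  have ho : orderOf x = Nat.card P := by
    rw [← Nat.card_zpowers]
    have : zpowers x = ⊤ := by
      rw [eq_top_iff]
      intro y _
      exact hx y
    rw [this, Subgroup.card_top]
  obtain ⟨k, hk⟩ := hP27
  refine ⟨((x ^ k : P) : H), ?_⟩
  rw [Subgroup.orderOf_coe, orderOf_pow, ho, hk]
  have hk0 : 0 < k := by
    rcases Nat.eq_zero_or_pos k with h0 | h0
    · rw [h0, mul_zero] at hk
      exact absurd hk Nat.card_pos.ne'
    · exact h0
  rw [Nat.gcd_eq_right (dvd_mul_left k (3 ^ 3)), Nat.mul_div_cancel _ hk0]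
  norm_num

end Cfsg.Agent.H846
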