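import Cfsg.Agent.H846.Elim.ExcOrd
import Cfsg.Agent.H92.ExcSL2
import Cfsg.Agent.ChevalleyStructure.WeylConj
import Cfsg.Agent.Sigma.RowsExc

/-!
# `Cond` fails for `F₄(q)` and `E₆(q)` (helper846)
-/

set_option autoImplicit false

namespace Cfsg.Agent.H846.Elim.Exc

open Subgroup Val Cfsg.Lie
open Cfsg.Agent.ChevalleyStructure Cfsg.Agent.ChevalleyStructure.Elts Cfsg.Agent.ChevalleyStructure.SL2Hom
  Cfsg.Agent.ChevalleyStructure.WeylConj
open Cfsg.Agent.H92.ExcSL2 (ph ph_eq_one ph_commute ph_injective Orth4 phi_up phi_lo)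
open Cfsg.Agent.Sigma.Symp (three)

section

variable {D : ChevalleyDatum} {F : Type} [Field F] (hD : InList D) (l : Fin 4 → ℕ) (hl : ∀ i, l i < D.nroots)
  (ho : ∀ i j, i ≠ j → Orth4 D (l i) (l j) = true)

theorem ph_congr {D : ChevalleyDatum} (hD : InList D) {F : Type} [Field F] {r s : ℕ} (h : r = s) (hr : r < D.nroots)
    (hs : s < D.nroots) (g : SL2 F) : ph hD hr g = ph hD hs g := by
  subst h
  rfl

/-- the four commuting subgroups -/
noncomputable def gg : (Fin 4 → SL2 F) →* ↥(D.group F) :=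
  MonoidHom.noncommPiCoprod (fun i : Fin 4 => ph hD (hl i))
    (fun i j hij a b => ph_commute hD (hl i) (hl j) (ho i j hij) a b)

theorem gg_single (i : Fin 4) (c : SL2 F) : gg hD l hl ho (Pi.mulSingle i c) = ph hD (hl i) c :=
  MonoidHom.noncommPiCoprod_mulSingle _ _ _

theorem gg_ker (i : Fin 4) (c : SL2 F) (h : gg hD l hl ho (Pi.mulSingle i c) = 1) : c = 1 ∨ c = -1 := by
  rw [gg_single] at h
  exact ph_eq_one hD (hl i) h

include hD hl ho in
theorem gg_one (hK : Cond ↥(D.group F)) [Fintype F] (h : Fintype.card F % 3 = 1) : False := by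
  obtain ⟨w, hw⟩ := exists_w h
  refine pi4_one hK ?_ (three_ne (h3 := inferInstance) (by omega)) hw (gg hD l hl ho) (gg_ker hD l hl ho)
  rw [Nat.card_eq_fintype_card]
  omega

include hD hl ho in
theorem gg_odd (hK : Cond ↥(D.group F)) (h2 : (2 : F) ≠ 0) {i s : ℕ} (hi : i < D.rank) (h0 : l 0 = D.simple i)
    (hs : s < D.nroots) (hodd : Odd (D.cartan i s)) : False := by
  refine pi4_odd hK (gg hD l hl ho) (gg_ker hD l hl ho) ?_
  rw [gg_single]
  intro h
  have h3 : D.simple i < D.nroots := h0 ▸ hl 0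
  have h4 : ph (F := F) hD h3 (-1) = 1 := (ph_congr hD h0.symm h3 (hl 0) _).trans h
  have h5 := ph_injective hD hi h3 hs hodd (h4.trans (map_one _).symm)
  have h6 := congrArg (fun z : SL2 F => (z : Matrix (Fin 2) (Fin 2) F) 0 0) h5
  simp at h6
  apply h2
  linear_combination -h6

/-! ### Weyl elements in characteristic 2 -/

variable (hlt : ∀ i < D.rank, ∀ s < D.nroots, D.reflectRoot i s < D.nroots)

/-- the product of the `n_p`, in the group -/
noncomputable def nGr (w : List ℕ) : ↥(D.group F) :=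
  ⟨nW hD F w, by
    unfold nW
    apply list_prod_mem
    intro x hx
    obtain ⟨i, -, rfl⟩ := List.mem_map.1 hx
    exact nG_mem_group hD _ _⟩

include hlt in
theorem nGr_conj (h2 : (2 : F) = 0) (w : List ℕ) (hw : ∀ i ∈ w, i < D.rank) {s : ℕ} (hs : s < D.nroots) :
    nW hD F w * xG hD s 1 * (nW hD F w)⁻¹ = xG hD (actW D w s) 1 := by
  obtain ⟨-, η, hη, h⟩ := nW_conj hD F hlt w hw hs
  rw [h, mul_one]
  rcases hη with rfl | rfl
  · rw [Int.cast_one]
  · congr 1
    rw [Int.cast_neg, Int.cast_one]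
    linear_combination -h2

theorem three_eq (h2 : (2 : F) = 0) : three F = up (1 : F) * lo (1 : F) := by
  apply Subtype.ext
  change _ = (up (1 : F)).1 * (lo (1 : F)).1
  have h3 : (-1 : F) = 1 := by linear_combination -h2
  ext i j
  fin_cases i <;> fin_cases j <;> simp [three, up, lo, h3]
  linear_combination -h2

theorem coe_three (h2 : (2 : F) = 0) {r : ℕ} (hr : r < D.nroots) :
    ((ph hD hr (three F) : ↥(D.group F)) : GL D.Idx F) = xG hD r 1 * xG hD (D.neg r) 1 := by
  rw [three_eq h2, Cfsg.Agent.H92.ExcSL2.coe_ph, map_mul, phi_up hD hr, phi_lo hD hr]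

include hlt in
/-- a Weyl element takes `r` to `s` -/
theorem conj_pos (h2 : (2 : F) = 0) (w : List ℕ) (hw : ∀ i ∈ w, i < D.rank) {r s : ℕ} (hr : r < D.nroots)
    (hs : s < D.nroots) (hnr : D.neg r < D.nroots) (h1 : actW D w r = s) (h3 : actW D w (D.neg r) = D.neg s) :
    MulAut.conj (nGr (F := F) hD w) (ph hD hr (three F)) = ph hD hs (three F) := by
  apply Subtype.ext
  rw [coe_three hD h2 hs, MulAut.conj_apply, Subgroup.coe_mul, Subgroup.coe_mul, Subgroup.coe_inv, coe_three hD h2 hr]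
  change nW hD F w * (xG hD r 1 * xG hD (D.neg r) 1) * (nW hD F w)⁻¹ = _
  rw [← h3, ← nGr_conj hD hlt h2 w hw hnr, ← h1, ← nGr_conj hD hlt h2 w hw hr]
  group

include hlt in
/-- a Weyl element takes `r` to `-s` -/
theorem conj_neg' (h2 : (2 : F) = 0) (w : List ℕ) (hw : ∀ i ∈ w, i < D.rank) {r s : ℕ} (hr : r < D.nroots)
    (hs : s < D.nroots) (hnr : D.neg r < D.nroots) (h1 : actW D w r = D.neg s) (h3 : actW D w (D.neg r) = s) :
    MulAut.conj (nGr (F := F) hD w) (ph hD hr (three F)) = (ph hD hs (three F))⁻¹ := by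
  apply Subtype.ext
  have hm : (-1 : F) = 1 := by linear_combination -h2
  have hi : ∀ r, (xG hD r (1 : F))⁻¹ = xG hD r 1 := fun r => by rw [xG_inv, hm]
  rw [Subgroup.coe_inv, coe_three hD h2 hs, MulAut.conj_apply, Subgroup.coe_mul, Subgroup.coe_mul, Subgroup.coe_inv,
    coe_three hD h2 hr, mul_inv_rev, hi, hi]
  change nW hD F w * (xG hD r 1 * xG hD (D.neg r) 1) * (nW hD F w)⁻¹ = _
  rw [← h1]
  conv_rhs => rw [← h3]
  rw [← nGr_conj hD hlt h2 w hw hr, ← nGr_conj hD hlt h2 w hw hnr]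
  group

theorem gg_four : Four (fun i => ph (F := F) hD (hl i) (three F))
    (fun i => MulAut.conj (gg hD l hl ho (Pi.mulSingle i (up1 F)))) := by
  have h := four_of_pi (F := F) (id : Fin 4 → Fin 4) Function.injective_id (gg hD l hl ho) (gg_ker hD l hl ho)
  have h1 : (fun i => ph (F := F) hD (hl i) (three F)) = fun i => gg hD l hl ho (Pi.mulSingle (id i) (three F)) := by
    funext i
    exact (gg_single hD l hl ho i _).symm
  rw [h1]
  exact h

end

variable {K : Type*} [Group K]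

/-! ### `F₄(q)` -/

theorem inF : InList chevF4 := by simp

theorem F_lt : ∀ i : Fin 4, (![25, 0, 6, 17] : Fin 4 → ℕ) i < chevF4.nroots := by decide +kernel
theorem F_orth : ∀ i j : Fin 4, i ≠ j → Orth4 chevF4 ((![25, 0, 6, 17] : Fin 4 → ℕ) i)
    ((![25, 0, 6, 17] : Fin 4 → ℕ) j) = true := by decide +kernel
theorem F_refl : ∀ i < chevF4.rank, ∀ s < chevF4.nroots, chevF4.reflectRoot i s < chevF4.nroots := by decide +kernel

def wI : List ℕ := [3, 1, 2, 0, 1, 2, 3, 1, 2, 0, 1, 2]
def wJ : List ℕ := [1, 2, 3, 1, 2, 0, 1, 2, 3, 1, 2, 0]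

theorem wI_mem : ∀ i ∈ wI, i < chevF4.rank := by decide +kernel
theorem wJ_mem : ∀ i ∈ wJ, i < chevF4.rank := by decide +kernel

theorem F_neg : ∀ i : Fin 4, chevF4.neg ((![25, 0, 6, 17] : Fin 4 → ℕ) i) < chevF4.nroots := by decide +kernel

/-- the group `F₄(q)` -/
theorem not_f4 (hK : Cond K) {F : Type} [Field F] [Fintype F] (e : K ≃* chevF4.group F) : False := by
  have h3 := f4 hK e
  have hK' := hK.congr e
  by_cases h1 : Fintype.card F % 3 = 1
  · exact gg_one inF _ F_lt F_orth hK' h1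
  · by_cases h2 : (2 : F) = 0
    · refine (gg_four (F := F) inF _ F_lt F_orth).contra_quat hK' (I := MulAut.conj (nGr inF wI))
        (J := MulAut.conj (nGr inF wJ)) ?_ ?_ ?_ ?_ ?_ ?_ ?_ ?_
      · exact conj_pos inF F_refl h2 wI wI_mem _ _ (F_neg 0) (by decide +kernel) (by decide +kernel)
      · exact conj_neg' inF F_refl h2 wI wI_mem _ _ (F_neg 1) (by decide +kernel) (by decide +kernel)
      · exact conj_pos inF F_refl h2 wI wI_mem _ _ (F_neg 2) (by decide +kernel) (by decide +kernel)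
      · exact conj_neg' inF F_refl h2 wI wI_mem _ _ (F_neg 3) (by decide +kernel) (by decide +kernel)
      · exact conj_pos inF F_refl h2 wJ wJ_mem _ _ (F_neg 0) (by decide +kernel) (by decide +kernel)
      · exact conj_neg' inF F_refl h2 wJ wJ_mem _ _ (F_neg 2) (by decide +kernel) (by decide +kernel)
      · exact conj_neg' inF F_refl h2 wJ wJ_mem _ _ (F_neg 1) (by decide +kernel) (by decide +kernel)
      · exact conj_pos inF F_refl h2 wJ wJ_mem _ _ (F_neg 3) (by decide +kernel) (by decide +kernel)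
    · exact gg_odd inF _ F_lt F_orth hK' h2 (i := 2) (s := chevF4.simple 1) (by decide +kernel) (by decide +kernel)
        (by decide +kernel) (by decide +kernel)

/-! ### `E₆(q)` -/

theorem inE : InList chevE6 := by simp

theorem E_lt : ∀ i : Fin 4, (![56, 0, 30, 34] : Fin 4 → ℕ) i < chevE6.nroots := by decide +kernel
theorem E_orth : ∀ i j : Fin 4, i ≠ j → Orth4 chevE6 ((![56, 0, 30, 34] : Fin 4 → ℕ) i)
    ((![56, 0, 30, 34] : Fin 4 → ℕ) j) = true := by decide +kernel

/-- the group `E₆(q)` -/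
theorem not_e6 (hK : Cond K) {F : Type} [Field F] [Fintype F] (e : K ≃* chevE6.group F) : False := by
  have hK' := hK.congr e
  by_cases h2 : (2 : F) = 0
  · exact hK'.not_wit (ETable.Exc.e6_three_four F h2)
  · exact gg_odd inE _ E_lt E_orth hK' h2 (i := 0) (s := chevE6.simple 2) (by decide +kernel) (by decide +kernel)
      (by decide +kernel) (by decide +kernel)

end Cfsg.Agent.H846.Elim.Exc
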