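import Cfsg.Agent.H846.Elim.OmEven
import Cfsg.Agent.S1059
import Cfsg.Agent.S1062
import Cfsg.Agent.S1063
import Cfsg.Agent.S1064
import Cfsg.Agent.S1065
import Cfsg.Agent.S1066
import Cfsg.Agent.S1067
import Cfsg.Agent.S1068
import Cfsg.Agent.S1069
import Cfsg.Agent.S1163

/-!
# `Cond` and the orders of the exceptional groups (helper846)
-/

set_option autoImplicit false

namespace Cfsg.Agent.H846.Elim.Exc

open Subgroup Val Cfsg.Lie

variable {K : Type*} [Group K]

theorem v_mul3 {a b c : ℕ} (ha : a ≠ 0) (hb : b ≠ 0) (hc : c ≠ 0) : v (a * b * c) = v a + v b + v c := by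
  rw [v_mul (mul_ne_zero ha hb) hc, v_mul ha hb]

theorem twelve : v 12 = 1 := by rw [show 12 = 3 * 4 from rfl, v_mul_three (by norm_num), v_four]

/-- `G₂(q)` -/
theorem g2 (hK : Cond K) (h : IsoChevG2 K) : False := by
  obtain ⟨F, _, _, hq3, ⟨e⟩⟩ := h
  have hq : 2 ≤ Fintype.card F := Fintype.one_lt_card
  have h1 := S1059.result (F := F) rfl
  have h2 := (hK.congr e).v_card
  set q := Fintype.card F with hqq
  rw [h1, v_mul3 (pow_ne_zero _ (by omega)) (sub_ne hq (by omega)) (sub_ne hq (by omega)), v_pow] at h2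
  by_cases h3 : q % 3 = 0
  · rw [v_sub_three h3 hq (by omega), v_sub_three h3 hq (by omega)] at h2
    have hv1 : v q = 1 := by omega
    -- `q = 3`
    have hchar := PSL.charP_three (F := F) (by rw [← hqq]; exact h3)
    have h3F := Fact.mk Nat.prime_three
    obtain ⟨m, -, hm⟩ := FiniteField.card F 3
    rw [← hqq] at hm
    have hm1 : (m : ℕ) = 1 := by
      rw [hm, v_pow, v_three, mul_one] at hv1
      exact hv1
    rw [hm1, pow_one] at hm
    -- 5 does not divide the order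
    obtain ⟨A, hA⟩ := hK.ex81
    obtain ⟨n, hn5, hn1, -⟩ := hK.five A hA
    have hfin := hK.fin
    have h5 : orderOf n = 5 := orderOf_eq_prime hn5 hn1
    have h6 : 5 ∣ Nat.card K := by
      rw [← h5]
      exact orderOf_dvd_natCard n
    rw [Nat.card_congr e.toEquiv, h1, hm] at h6
    revert h6
    decide
  · have e6 : v (q ^ 6 - 1) = v (q ^ 2 - 1) + v 3 := v_even (k := 3) h3 hq (by norm_num)
    rw [v_of_not h3, e6, v_three] at h2
    omega

/-- `F₄(q)` -/
theorem f4 (hK : Cond K) {F : Type} [Field F] [Fintype F] (e : K ≃* chevF4.group F) :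
    Fintype.card F % 3 ≠ 0 := by
  intro h3
  have hq : 2 ≤ Fintype.card F := Fintype.one_lt_card
  have h1 := S1062.result (F := F) rfl
  have h2 := (hK.congr e).v_card
  set q := Fintype.card F with hqq
  have hs : ∀ k, k ≠ 0 → q ^ k - 1 ≠ 0 := fun k hk => sub_ne hq hk
  have hqp : q ^ 24 ≠ 0 := pow_ne_zero _ (by omega)
  rw [h1, v_mul (mul_ne_zero (mul_ne_zero (mul_ne_zero hqp (hs 2 (by omega))) (hs 6 (by omega))) (hs 8 (by omega)))
    (hs 12 (by omega)), v_mul (mul_ne_zero (mul_ne_zero hqp (hs 2 (by omega))) (hs 6 (by omega))) (hs 8 (by omega)),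
    v_mul (mul_ne_zero hqp (hs 2 (by omega))) (hs 6 (by omega)), v_mul hqp (hs 2 (by omega)), v_pow] at h2
  rw [v_sub_three h3 hq (by omega), v_sub_three h3 hq (by omega), v_sub_three h3 hq (by omega),
    v_sub_three h3 hq (by omega)] at h2
  omega

/-- the exponents of a product -/
theorem v_gprod {q : ℕ} (hq : 2 ≤ q) (n : ℕ) (l : List (ℕ × Bool)) (hl : ∀ x ∈ l, x.1 ≠ 0) :
    v (q ^ n * (l.map fun x => if x.2 then q ^ x.1 + 1 else q ^ x.1 - 1).prod) =
      n * v q + (l.map fun x => v (if x.2 then q ^ x.1 + 1 else q ^ x.1 - 1)).sum ∧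
    (l.map fun x => if x.2 then q ^ x.1 + 1 else q ^ x.1 - 1).prod ≠ 0 := by
  have hne : ∀ x ∈ l, (if x.2 then q ^ x.1 + 1 else q ^ x.1 - 1) ≠ 0 := by
    intro x hx
    split_ifs
    · omega
    · exact sub_ne hq (hl x hx)
  have hprod : (l.map fun x => if x.2 then q ^ x.1 + 1 else q ^ x.1 - 1).prod ≠ 0 := by
    apply List.prod_ne_zero
    simp only [List.mem_map, not_exists, not_and]
    intro x hx
    exact hne x hx
  refine ⟨?_, hprod⟩
  rw [v_mul (pow_ne_zero _ (by omega)) hprod, v_pow]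
  congr 1
  clear hl hprod
  induction l with
  | nil => simp [v_one]
  | cons x l ih =>
    have h1 : ∀ y ∈ l, (if y.2 then q ^ y.1 + 1 else q ^ y.1 - 1) ≠ 0 := fun y hy => hne y (List.mem_cons_of_mem _ hy)
    have h2 : (l.map fun x => if x.2 then q ^ x.1 + 1 else q ^ x.1 - 1).prod ≠ 0 := by
      apply List.prod_ne_zero
      simp only [List.mem_map, not_exists, not_and]
      intro x hx
      exact h1 x hx
    rw [List.map_cons, List.map_cons, List.prod_cons, List.sum_cons, v_mul (hne x (List.mem_cons_self)) h2, ih h1]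

theorem ten' : v 10 = 0 := v_ten
theorem fourteen : v 14 = 0 := v_of_not (by norm_num)
theorem eighteen : v 18 = 2 := by rw [show 18 = 3 * 6 from rfl, v_mul_three (by norm_num), v_six]
theorem fifteen : v 15 = 1 := by rw [show 15 = 3 * 5 from rfl, v_mul_three (by norm_num), v_five]

theorem v_gcd_zero {n m : ℕ} (hn : n ≠ 0) (h : v n = 0) : v (Nat.gcd n m) = 0 := by
  have := PSU.v_gcd_le (n := n) (m := m) hn
  omega

theorem v_gcd_three_le (m : ℕ) : v (Nat.gcd 3 m) ≤ 1 := by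
  have := PSU.v_gcd_le (n := 3) (m := m) (by norm_num)
  rwa [v_three] at this

/-- `E₆(q)`: only `q ≡ 2 (mod 3)` -/
theorem e6 (hK : Cond K) {F : Type} [Field F] [Fintype F] (e : K ≃* chevE6.group F) :
    Fintype.card F % 3 = 2 := by
  have hq : 2 ≤ Fintype.card F := Fintype.one_lt_card
  have h1 := S1063.result (F := F) rfl
  have h2 := (hK.congr e).v_card
  have hfin := (hK.congr e).fin
  have h0 : Nat.card (chevE6.group F) ≠ 0 := Nat.card_pos.ne'
  set q := Fintype.card F with hqq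
  have hg0 : Nat.gcd 3 (q - 1) ≠ 0 := by
    intro h
    have := Nat.eq_zero_of_gcd_eq_zero_left h
    omega
  have h4 := (v_gprod hq 36 [(2, false), (5, false), (6, false), (8, false), (9, false), (12, false)]
    (by simp)).1
  have h5 : q ^ 36 * ([(2, false), (5, false), (6, false), (8, false), (9, false), (12, false)].map
      fun x : ℕ × Bool => if x.2 then q ^ x.1 + 1 else q ^ x.1 - 1).prod =
      q ^ 36 * (q ^ 2 - 1) * (q ^ 5 - 1) * (q ^ 6 - 1) * (q ^ 8 - 1) * (q ^ 9 - 1) * (q ^ 12 - 1) := by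
    simp [mul_assoc]
  rw [h5, ← h1, v_mul hg0 h0, h2] at h4
  simp only [List.map_cons, List.map_nil, List.sum_cons, List.sum_nil, Bool.false_eq_true, if_false, add_zero] at h4
  have hg := v_gcd_three_le (q - 1)
  by_contra hcon
  have h3 : q % 3 = 0 ∨ q % 3 = 1 := by omega
  rcases h3 with h3 | h3
  · simp only [v_sub_three h3 hq (by norm_num : (2 : ℕ) ≠ 0), v_sub_three h3 hq (by norm_num : (5 : ℕ) ≠ 0),
      v_sub_three h3 hq (by norm_num : (6 : ℕ) ≠ 0), v_sub_three h3 hq (by norm_num : (8 : ℕ) ≠ 0),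
      v_sub_three h3 hq (by norm_num : (9 : ℕ) ≠ 0), v_sub_three h3 hq (by norm_num : (12 : ℕ) ≠ 0)] at h4
    omega
  · have ha := a_pos (q := q) (by omega) hq
    rw [v_any h3 hq (by norm_num : (5 : ℕ) ≠ 0),
      v_any h3 hq (by norm_num : (6 : ℕ) ≠ 0), v_any h3 hq (by norm_num : (8 : ℕ) ≠ 0),
      v_any h3 hq (by norm_num : (9 : ℕ) ≠ 0), v_any h3 hq (by norm_num : (12 : ℕ) ≠ 0), v_five, v_six, v_eight, v_nine,
      twelve] at h4
    omega

/-- `²E₆(q)`: only `q ≡ 1 (mod 3)` -/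
theorem te6 (hK : Cond K) {F : Type} [Field F] [Fintype F] {q : ℕ} (hpp : IsPrimePow q) (hF : Fintype.card F = q ^ 2)
    (e : K ≃* twistedE6 F q) : q % 3 = 1 := by
  have hq : 2 ≤ q := hpp.two_le
  have h1 := S1066.result (K := F) hpp hF
  have h2 := (hK.congr e).v_card
  have hfin := (hK.congr e).fin
  have h0 : Nat.card (twistedE6 F q) ≠ 0 := Nat.card_pos.ne'
  have hg0 : Nat.gcd 3 (q + 1) ≠ 0 := by
    intro h
    have := Nat.eq_zero_of_gcd_eq_zero_left h
    omega
  have h4 := (v_gprod hq 36 [(2, false), (5, true), (6, false), (8, false), (9, true), (12, false)]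
    (by simp)).1
  have h5 : q ^ 36 * ([(2, false), (5, true), (6, false), (8, false), (9, true), (12, false)].map
      fun x : ℕ × Bool => if x.2 then q ^ x.1 + 1 else q ^ x.1 - 1).prod =
      q ^ 36 * (q ^ 2 - 1) * (q ^ 5 + 1) * (q ^ 6 - 1) * (q ^ 8 - 1) * (q ^ 9 + 1) * (q ^ 12 - 1) := by
    simp [mul_assoc]
  rw [h5, ← h1, v_mul hg0 h0, h2] at h4
  simp only [List.map_cons, List.map_nil, List.sum_cons, List.sum_nil, Bool.false_eq_true, if_false, if_true, add_zero] at h4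
  have hg := v_gcd_three_le (q + 1)
  by_contra hcon
  have h3 : q % 3 = 0 ∨ q % 3 = 2 := by omega
  rcases h3 with h3 | h3
  · simp only [v_sub_three h3 hq (by norm_num : (2 : ℕ) ≠ 0), v_add_three h3 (by norm_num : (5 : ℕ) ≠ 0),
      v_sub_three h3 hq (by norm_num : (6 : ℕ) ≠ 0), v_sub_three h3 hq (by norm_num : (8 : ℕ) ≠ 0),
      v_add_three h3 (by norm_num : (9 : ℕ) ≠ 0), v_sub_three h3 hq (by norm_num : (12 : ℕ) ≠ 0)] at h4
    omega
  · have ha := a_pos (q := q) (by omega) hq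
    have h30 : q % 3 ≠ 0 := by omega
    have e6 : v (q ^ 6 - 1) = v (q ^ 2 - 1) + v 3 := v_even (k := 3) h30 hq (by norm_num)
    have e8 : v (q ^ 8 - 1) = v (q ^ 2 - 1) + v 4 := v_even (k := 4) h30 hq (by norm_num)
    have e12 : v (q ^ 12 - 1) = v (q ^ 2 - 1) + v 6 := v_even (k := 6) h30 hq (by norm_num)
    rw [v_plus_odd h3 (by norm_num : 5 % 2 = 1), e6, e8, v_plus_odd h3 (by norm_num : 9 % 2 = 1), e12,
      v_five, v_three, v_four, v_nine, v_six] at h4
    omega

/-- `E₇(q)` -/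
theorem e7 (hK : Cond K) (h : IsoE7 K) : False := by
  obtain ⟨F, _, _, ⟨e⟩⟩ := h
  have hq : 2 ≤ Fintype.card F := Fintype.one_lt_card
  have h1 := S1064.result (F := F) rfl
  have h2 := (hK.congr e).v_card
  have hfin := (hK.congr e).fin
  have h0 : Nat.card (chevE7.group F) ≠ 0 := Nat.card_pos.ne'
  set q := Fintype.card F with hqq
  have hg0 : Nat.gcd 2 (q - 1) ≠ 0 := by
    intro h
    have := Nat.eq_zero_of_gcd_eq_zero_left h
    omega
  have h4 := (v_gprod hq 63 [(2, false), (6, false), (8, false), (10, false), (12, false), (14, false), (18, false)]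
    (by simp)).1
  have h5 : q ^ 63 * ([(2, false), (6, false), (8, false), (10, false), (12, false), (14, false), (18, false)].map
      fun x : ℕ × Bool => if x.2 then q ^ x.1 + 1 else q ^ x.1 - 1).prod =
      q ^ 63 * (q ^ 2 - 1) * (q ^ 6 - 1) * (q ^ 8 - 1) * (q ^ 10 - 1) * (q ^ 12 - 1) * (q ^ 14 - 1) * (q ^ 18 - 1) := by
    simp [mul_assoc]
  rw [h5, ← h1, v_mul hg0 h0, h2, v_gcd_zero (by norm_num) v_two] at h4
  simp only [List.map_cons, List.map_nil, List.sum_cons, List.sum_nil, Bool.false_eq_true, if_false, add_zero] at h4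
  by_cases h3 : q % 3 = 0
  · have : 1 ≤ v q := (dvd_iff (by omega)).1 (by rw [pow_one]; exact Nat.dvd_of_mod_eq_zero h3)
    omega
  · have ha := a_pos (q := q) h3 hq
    have e6 : v (q ^ 6 - 1) = v (q ^ 2 - 1) + v 3 := v_even (k := 3) h3 hq (by norm_num)
    have e8 : v (q ^ 8 - 1) = v (q ^ 2 - 1) + v 4 := v_even (k := 4) h3 hq (by norm_num)
    have e10 : v (q ^ 10 - 1) = v (q ^ 2 - 1) + v 5 := v_even (k := 5) h3 hq (by norm_num)
    have e12 : v (q ^ 12 - 1) = v (q ^ 2 - 1) + v 6 := v_even (k := 6) h3 hq (by norm_num)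
    have e14 : v (q ^ 14 - 1) = v (q ^ 2 - 1) + v 7 := v_even (k := 7) h3 hq (by norm_num)
    have e18 : v (q ^ 18 - 1) = v (q ^ 2 - 1) + v 9 := v_even (k := 9) h3 hq (by norm_num)
    omega

/-- `E₈(q)` -/
theorem e8 (hK : Cond K) (h : IsoE8 K) : False := by
  obtain ⟨F, _, _, ⟨e⟩⟩ := h
  have hq : 2 ≤ Fintype.card F := Fintype.one_lt_card
  have h1 := S1065.result (F := F) rfl
  have h2 := (hK.congr e).v_card
  set q := Fintype.card F with hqq
  have h4 := (v_gprod hq 120 [(2, false), (8, false), (12, false), (14, false), (18, false), (20, false), (24, false),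
    (30, false)] (by simp)).1
  have h5 : q ^ 120 * ([(2, false), (8, false), (12, false), (14, false), (18, false), (20, false), (24, false),
      (30, false)].map fun x : ℕ × Bool => if x.2 then q ^ x.1 + 1 else q ^ x.1 - 1).prod =
      q ^ 120 * (q ^ 2 - 1) * (q ^ 8 - 1) * (q ^ 12 - 1) * (q ^ 14 - 1) * (q ^ 18 - 1) * (q ^ 20 - 1) * (q ^ 24 - 1) *
        (q ^ 30 - 1) := by
    simp [mul_assoc]
  rw [h5, ← h1, h2] at h4
  simp only [List.map_cons, List.map_nil, List.sum_cons, List.sum_nil, Bool.false_eq_true, if_false, add_zero] at h4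
  by_cases h3 : q % 3 = 0
  · have : 1 ≤ v q := (dvd_iff (by omega)).1 (by rw [pow_one]; exact Nat.dvd_of_mod_eq_zero h3)
    omega
  · have ha := a_pos (q := q) h3 hq
    have e8 : v (q ^ 8 - 1) = v (q ^ 2 - 1) + v 4 := v_even (k := 4) h3 hq (by norm_num)
    have e12 : v (q ^ 12 - 1) = v (q ^ 2 - 1) + v 6 := v_even (k := 6) h3 hq (by norm_num)
    have e14 : v (q ^ 14 - 1) = v (q ^ 2 - 1) + v 7 := v_even (k := 7) h3 hq (by norm_num)
    have e18 : v (q ^ 18 - 1) = v (q ^ 2 - 1) + v 9 := v_even (k := 9) h3 hq (by norm_num)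
    have e20 : v (q ^ 20 - 1) = v (q ^ 2 - 1) + v 10 := v_even (k := 10) h3 hq (by norm_num)
    have e24 : v (q ^ 24 - 1) = v (q ^ 2 - 1) + v 12 := v_even (k := 12) h3 hq (by norm_num)
    omega

/-- `³D₄(q)`: `9 ∣ q² - 1`, `27 ∤ q² - 1` -/
theorem d4 (hK : Cond K) {F : Type} [Field F] [Fintype F] {q : ℕ} (hpp : IsPrimePow q) (hF : Fintype.card F = q ^ 3)
    (e : K ≃* twistedD4 F q) : q % 3 ≠ 0 ∧ v (q ^ 2 - 1) = 2 := by
  have hq : 2 ≤ q := hpp.two_le
  have h1 := S1067.result (K := F) hpp hF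
  have h2 := (hK.congr e).v_card
  have hs : ∀ k, k ≠ 0 → q ^ k - 1 ≠ 0 := fun k hk => sub_ne hq hk
  have hqp : q ^ 12 ≠ 0 := pow_ne_zero _ (by omega)
  rw [h1, v_mul (mul_ne_zero (mul_ne_zero hqp (hs 2 (by omega))) (hs 6 (by omega))) (by omega),
    v_mul3 hqp (hs 2 (by omega)) (hs 6 (by omega)), v_pow] at h2
  by_cases h3 : q % 3 = 0
  · have : 1 ≤ v q := (dvd_iff (by omega)).1 (by rw [pow_one]; exact Nat.dvd_of_mod_eq_zero h3)
    omega
  · refine ⟨h3, ?_⟩
    have ha := a_pos (q := q) h3 hq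
    have e6 : v (q ^ 6 - 1) = v (q ^ 2 - 1) + v 3 := v_even (k := 3) h3 hq (by norm_num)
    have e4 : v (q ^ 4 - 1) = v (q ^ 2 - 1) + v 2 := v_even (k := 2) h3 hq (by norm_num)
    have e12 : v (q ^ 12 - 1) = v (q ^ 2 - 1) + v 6 := v_even (k := 6) h3 hq (by norm_num)
    have hprod : (q ^ 4 - 1) * (q ^ 8 + q ^ 4 + 1) = q ^ 12 - 1 := by
      have h5 : 1 ≤ q ^ 4 := Nat.one_le_pow _ _ (by omega)
      obtain ⟨c, hc⟩ := Nat.exists_eq_add_of_le h5
      have h6 : q ^ 8 = (1 + c) ^ 2 := by rw [← hc, ← pow_mul]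
      have h7 : q ^ 12 = (1 + c) ^ 3 := by rw [← hc, ← pow_mul]
      rw [h6, h7, hc]
      have h8 : (1 + c) ^ 3 - 1 = c * ((1 + c) ^ 2 + (1 + c) + 1) := by
        have : (1 + c) ^ 3 = 1 + c * ((1 + c) ^ 2 + (1 + c) + 1) := by ring
        omega
      rw [h8]
      congr 1
      omega
    have h9 := congrArg v hprod
    rw [v_mul (hs 4 (by omega)) (by omega)] at h9
    rw [v_of_not h3] at h2
    rw [v_six, v_three, v_two] at *
    omega

/-- Suzuki groups -/
theorem sz (hK : Cond K) (h : IsoSuzuki K) : False := by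
  obtain ⟨F, _, _, m, hm, hF, ⟨e⟩⟩ := h
  have h1 := (S1163.result (F := F) hm hF).1
  have h2 := (hK.congr e).v_card
  have hq2 : 2 ≤ 2 ^ (2 * m + 1) := Nat.le_self_pow (by omega) 2
  have h3 : 2 ^ (2 * m + 1) % 3 = 2 := mod_two_pow_odd (by norm_num) (by omega)
  rw [h1] at h2
  generalize 2 ^ (2 * m + 1) = q at *
  have h4 : v (q - 1) = 0 := v_of_not (by omega)
  have h5 : v (q ^ 2 + 1) = 0 := v_plus_even h3 (by norm_num)
  rw [v_mul3 (pow_ne_zero _ (by omega)) (by omega) (by omega), h4, h5, v_pow, v_of_not (by omega)] at h2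
  omega

/-- Ree groups -/
theorem ree (hK : Cond K) (h : IsoRee K) : False := by
  obtain ⟨F, _, _, m, hm, hF, ⟨e⟩⟩ := h
  have h1 := S1069.result (K := F) hF
  have h2 := (hK.congr e).v_card
  have hq3 : 3 ^ 1 ≤ 3 ^ (2 * m + 1) := Nat.pow_le_pow_right (by norm_num) (by omega)
  have h3 : 3 ^ (2 * m + 1) % 3 = 0 := by rw [pow_succ, Nat.mul_mod_left]
  have h6 : v (3 ^ (2 * m + 1)) = 2 * m + 1 := by rw [v_pow, v_three, mul_one]
  rw [h1] at h2
  generalize 3 ^ (2 * m + 1) = q at *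
  have h4 : v (q - 1) = 0 := v_of_not (by omega)
  have h5 : v (q ^ 3 + 1) = 0 := v_add_three h3 (by norm_num)
  rw [v_mul3 (pow_ne_zero _ (by omega)) (by omega) (by omega), h4, h5, v_pow, h6] at h2
  omega

/-- `²F₄(q)` -/
theorem tf4 (hK : Cond K) (h : Iso2F4 K) : False := by
  obtain ⟨F, _, _, m, hm, hF, ⟨e⟩⟩ := h
  have h1 := S1068.result (K := F) hF
  have h2 := (hK.congr e).v_card
  have hq2 : 2 ≤ 2 ^ (2 * m + 1) := Nat.le_self_pow (by omega) 2
  have h3 : 2 ^ (2 * m + 1) % 3 = 2 := mod_two_pow_odd (by norm_num) (by omega)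
  rw [h1] at h2
  generalize 2 ^ (2 * m + 1) = q at *
  have h4 : v (q - 1) = 0 := v_of_not (by omega)
  have h5 : v (q ^ 6 + 1) = 0 := v_plus_even h3 (by norm_num)
  have h6 : v (q ^ 3 + 1) = v (q ^ 2 - 1) + v 3 := v_plus_odd h3 (by norm_num)
  have h7 : v (q ^ 4 - 1) = v (q ^ 2 - 1) + v 2 := v_even (k := 2) (by omega) hq2 (by norm_num)
  have hqp : q ^ 12 ≠ 0 := pow_ne_zero _ (by omega)
  have h8 : q ^ 4 - 1 ≠ 0 := sub_ne hq2 (by norm_num)
  rw [v_mul (mul_ne_zero (mul_ne_zero (mul_ne_zero hqp (by omega)) (by omega)) h8) (by omega),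
    v_mul (mul_ne_zero (mul_ne_zero hqp (by omega)) (by omega)) h8, v_mul3 hqp (by omega) (by omega), h4, h5, h6, h7,
    v_pow, v_of_not (by omega), v_three, v_two] at h2
  omega

/-- the Tits group -/
theorem tits (hK : Cond K) (h : IsoTits K) : False := by
  obtain ⟨e⟩ := h
  have h1 := S1068.result (K := ZMod 2) (m := 0) (by simp [ZMod.card])
  have h2 : Nat.card TitsGroup ∣ Nat.card (twistedF4 (ZMod 2) 1) := card_subgroup_dvd_card _
  have h3 := hK.card6
  rw [Nat.card_congr e.toEquiv] at h3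
  have h4 := h3.trans h2
  rw [pow_zero] at h1
  rw [h1] at h4
  revert h4
  norm_num

end Cfsg.Agent.H846.Elim.Exc
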