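import Cfsg.Agent.H846.Elim.ExcF4
import Cfsg.Agent.Nodes.RGDTwComE6

/-!
# `Cond` fails for `²E₆(q)` (helper846)

`long_mem`, `phi_mem` and the table checks follow helper680 (`H680.CritGExc`).
-/

set_option autoImplicit false

namespace Cfsg.Agent.H846.Elim.Exc

open Subgroup Val Cfsg Cfsg.Lie
open Cfsg.Agent.ChevalleyStructure Cfsg.Agent.ChevalleyStructure.Elts
open Cfsg.Agent.H92.ExcSL2 (ph ph_eq_one ph_commute ph_injective Orth4 phi_up phi_lo phi_commute)

section

open CoxeterSystem Cfsg.Agent.ChevalleyStructure.CoxeterGeom Cfsg.Agent.Tits.Roots Cfsg.Agent.Nodes.RGDTwE6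
  Cfsg.Agent.Nodes.RGDTwCoord Cfsg.Agent.Nodes.RGDFold Cfsg.Agent.Nodes.RGDFoldSL
  Cfsg.Agent.Nodes.RGDTwCoordE6 Cfsg.Agent.Nodes.RGDTwComE6
open Cfsg.Agent.ChevalleyStructure.SL2Hom (up lo)
open Cfsg.Agent.ChevalleyStructure.SL2Hom (phi)

variable {K : Type} [Field K] [Fintype K] {q : ℕ} {φ : K →+* K} (hφ : ∀ x, φ x = x ^ q)
  (hqq : ∀ t : K, (t ^ q) ^ q = t)

include hφ hqq

/-- the long root elements over the small field are in `²E₆(q)` -/
theorem long_mem {r : ℕ} (hr : r < chevE6.nroots) (hc : cl chevE6 J O (V chevE6 J r) = [r])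
    (hd : dl r * dl r = 1) {a : K} (ha : φ a = a) : xG hp.inList r a ∈ twistedE6 K q := by
  have hz := isRoot_V (cs := CoxeterMatrix.F₄.toCoxeterSystem) hr
  have hok : Ok chevE6 J O φ (V chevE6 J r) (((dl r : ℤ) : K) * a) := by
    unfold Ok
    rw [hc]
    show φ (((dl r : ℤ) : K) * a) = _
    rw [map_mul, map_intCast, ha]
  have h1 := coe_x hφ hqq hz hok
  have h2 : Y hp J φ dl O (V chevE6 J r) (((dl r : ℤ) : K) * a) = xG hp.inList r a := by
    unfold Y
    rw [hc]
    show xG hp.inList r (((dl r : ℤ) : K) * (((dl r : ℤ) : K) * a)) * 1 = _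
    rw [mul_one, ← mul_assoc, ← Int.cast_mul, hd, Int.cast_one, one_mul]
  rw [h2] at h1
  rw [← h1]
  exact SetLike.coe_mem _

theorem phi_mem6 {P : Type} [Field P] (c : P →+* K) (hcc : ∀ t, φ (c t) = c t) {r : ℕ} (hr : r < chevE6.nroots)
    (hc : cl chevE6 J O (V chevE6 J r) = [r]) (hd : dl r * dl r = 1) (hr' : chevE6.neg r < chevE6.nroots)
    (hc' : cl chevE6 J O (V chevE6 J (chevE6.neg r)) = [chevE6.neg r])
    (hd' : dl (chevE6.neg r) * dl (chevE6.neg r) = 1)
    (g : Matrix.SpecialLinearGroup (Fin 2) P) :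
    phi (SL2All.good_of_mem chevE6 hp.inList r hr) K (Matrix.SpecialLinearGroup.map c g) ∈ twistedE6 K q := by
  have h : closure (Set.range (up (F := P)) ∪ Set.range (lo (F := P))) ≤
      (twistedE6 K q).comap ((phi (SL2All.good_of_mem chevE6 hp.inList r hr) K).comp
        (Matrix.SpecialLinearGroup.map c)) := by
    rw [closure_le]
    rintro _ (⟨t, rfl⟩ | ⟨t, rfl⟩)
    · show phi (SL2All.good_of_mem chevE6 hp.inList r hr) K (Matrix.SpecialLinearGroup.map c (up t)) ∈ twistedE6 K q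
      have h1 : Matrix.SpecialLinearGroup.map c (up t) = up (c t) := by
        apply Subtype.ext
        change (!![1, t; 0, 1] : Matrix (Fin 2) (Fin 2) P).map c = !![1, c t; 0, 1]
        ext i j
        fin_cases i <;> fin_cases j <;> simp
      rw [h1, phi_up hp.inList hr]
      exact long_mem hφ hqq hr hc hd (hcc t)
    · show phi (SL2All.good_of_mem chevE6 hp.inList r hr) K (Matrix.SpecialLinearGroup.map c (lo t)) ∈ twistedE6 K q
      have h1 : Matrix.SpecialLinearGroup.map c (lo t) = lo (c t) := by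
        apply Subtype.ext
        change (!![1, 0; t, 1] : Matrix (Fin 2) (Fin 2) P).map c = !![1, 0; c t, 1]
        ext i j
        fin_cases i <;> fin_cases j <;> simp
      rw [h1, phi_lo hp.inList hr]
      exact long_mem hφ hqq hr' hc' hd' (hcc t)
  exact h (SL2Hom.mem_closure_SL2 g)

end

section

open Cfsg.Agent.Nodes.RGDTwE6 Cfsg.Agent.Nodes.RGDTwCoord Cfsg.Agent.Nodes.RGDFold
  Cfsg.Agent.Nodes.RGDTwCoordE6

theorem T_lt : ∀ i : Fin 4, (![39, 44, 60, 71] : Fin 4 → ℕ) i < chevE6.nroots := by decide +kernel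
theorem T_neg_lt : ∀ i : Fin 4, chevE6.neg ((![39, 44, 60, 71] : Fin 4 → ℕ) i) < chevE6.nroots := by decide +kernel
theorem T_cl : ∀ i : Fin 4, cl chevE6 J O (V chevE6 J ((![39, 44, 60, 71] : Fin 4 → ℕ) i)) =
    [(![39, 44, 60, 71] : Fin 4 → ℕ) i] := by decide +kernel
theorem T_neg_cl : ∀ i : Fin 4, cl chevE6 J O (V chevE6 J (chevE6.neg ((![39, 44, 60, 71] : Fin 4 → ℕ) i))) =
    [chevE6.neg ((![39, 44, 60, 71] : Fin 4 → ℕ) i)] := by decide +kernel
theorem T_dl : ∀ i : Fin 4, dl ((![39, 44, 60, 71] : Fin 4 → ℕ) i) * dl ((![39, 44, 60, 71] : Fin 4 → ℕ) i) = 1 := by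
  decide +kernel
theorem T_neg_dl : ∀ i : Fin 4, dl (chevE6.neg ((![39, 44, 60, 71] : Fin 4 → ℕ) i)) *
    dl (chevE6.neg ((![39, 44, 60, 71] : Fin 4 → ℕ) i)) = 1 := by
  decide +kernel
theorem T_orth : ∀ i j : Fin 4, i ≠ j → Orth4 chevE6 ((![39, 44, 60, 71] : Fin 4 → ℕ) i)
    ((![39, 44, 60, 71] : Fin 4 → ℕ) j) = true := by decide +kernel

theorem not_te6 {G : Type*} [Group G] (hK : Cond G) {K : Type} [Field K] [Fintype K] {q : ℕ} (hq : IsPrimePow q)
    (hF : Fintype.card K = q ^ 2) (e : G ≃* twistedE6 K q) : False := by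
  have h1 := te6 hK hq hF e
  have hK' := hK.congr e
  obtain ⟨φ, hφ, hqq⟩ := TwE6Basic.exists_frob hq hF
  -- the fixed field
  let P : Subfield K := RingHom.eqLocusField φ (RingHom.id K)
  have hP : ∀ x : P, φ (P.subtype x) = P.subtype x := fun x => x.2
  have h3 : (3 : K) ≠ 0 := three_ne (h3 := inferInstance) (by
    rw [hF, Nat.pow_mod, h1]
    norm_num)
  -- the cube root of unity
  obtain ⟨w, hw⟩ := exists_w (F := K) (by rw [hF, Nat.pow_mod, h1])
  have hw3 : w ^ 3 = 1 := by linear_combination (w - 1) * hw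
  have hwP : φ w = w := by
    rw [hφ]
    have h2 : q = 3 * (q / 3) + 1 := by omega
    rw [h2, pow_succ, pow_mul, hw3, one_pow, one_mul]
  let w' : P := ⟨w, hwP⟩
  have hw' : w' ^ 2 + w' + 1 = 0 := Subtype.ext hw
  let f : Fin 4 → (SL2 P →* ↥(twistedE6 K q)) := fun i =>
    ((SL2Hom.phi (SL2All.good_of_mem chevE6 hp.inList _ (T_lt i)) K).comp
      (Matrix.SpecialLinearGroup.map P.subtype)).codRestrict (twistedE6 K q)
        (fun g => phi_mem6 hφ hqq P.subtype hP (T_lt i) (T_cl i) (T_dl i) (T_neg_lt i) (T_neg_cl i) (T_neg_dl i) g)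
  have hcomm : Pairwise fun i j => ∀ a b, Commute (f i a) (f j b) := by
    intro i j hij a b
    apply Subtype.ext
    exact (phi_commute hp.inList (T_lt i) (T_lt j) (T_orth i j hij) _ _).eq
  have hker : ∀ i (c : SL2 P), f i c = 1 → c = 1 ∨ c = -1 := by
    intro i c h
    have h0 := congrArg Subtype.val h
    change SL2Hom.phi (SL2All.good_of_mem chevE6 hp.inList _ (T_lt i)) K
      (Matrix.SpecialLinearGroup.map P.subtype c) = 1 at h0
    have h1 : ph hp.inList (T_lt i) (Matrix.SpecialLinearGroup.map P.subtype c) = 1 := Subtype.ext h0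
    have hinj : ∀ a b : SL2 P, Matrix.SpecialLinearGroup.map P.subtype a = Matrix.SpecialLinearGroup.map P.subtype b →
        a = b := by
      intro a b h
      ext i j
      have := congrArg (fun z : SL2 K => z.1 i j) h
      exact this
    rcases ph_eq_one hp.inList (T_lt i) h1 with h | h
    · left
      apply hinj
      rw [h, map_one]
    · right
      apply hinj
      rw [h]
      ext i j
      fin_cases i <;> fin_cases j <;> simp
  refine pi4_one hK' (F := P) ?_ ?_ hw' (MonoidHom.noncommPiCoprod f hcomm) ?_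
  · -- the characteristic
    intro h
    obtain ⟨p, hp'⟩ := CharP.exists K
    have hpr : p.Prime := (CharP.char_is_prime_or_zero K p).resolve_right (CharP.char_ne_zero_of_finite K p)
    have : Fact p.Prime := ⟨hpr⟩
    have : CharP P p := inferInstance
    have := Fintype.ofFinite P
    obtain ⟨n, -, hn⟩ := FiniteField.card P p
    rw [Nat.card_eq_fintype_card, hn] at h
    have h2 := (Nat.prime_dvd_prime_iff_eq Nat.prime_three hpr).1 (Nat.prime_three.dvd_of_dvd_pow h)
    subst h2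
    apply h3
    exact_mod_cast CharP.cast_eq_zero K 3
  · intro h
    apply h3
    have := congrArg (fun z : P => (z : K)) h
    exact this
  · intro i c h
    rw [MonoidHom.noncommPiCoprod_mulSingle] at h
    exact hker i c h

end

end Cfsg.Agent.H846.Elim.Exc
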