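import Cfsg.Agent.H846.Elim.OmOdd
import Cfsg.Agent.Sigma.RowsSpOm

/-!
# `Cond` fails for orthogonal groups of characteristic 2 (helper846)
-/

set_option autoImplicit false

namespace Cfsg.Agent.H846.Elim

open Subgroup Val QuadraticMap Cfsg.Agent.ETable

theorem _root_.Cfsg.Agent.H846.Cond.not_wit {K : Type*} [Group K] (hK : Cond K) (h : Wit 3 4 K) : False := by
  have h3F := Fact.mk Nat.prime_three
  have hfin := hK.fin
  obtain ⟨T, E, hT, hT1, hE, hEp, hc, hn⟩ := h
  have hEg : IsPGroup 3 E := by
    intro x
    exact ⟨1, Subtype.ext (by rw [pow_one]; exact hEp x x.2)⟩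
  obtain ⟨k, hk⟩ := (IsPGroup.iff_card (p := 3)).1 hEg
  have hk4 : 4 ≤ k := by
    rw [hk] at hc
    exact (Nat.pow_le_pow_iff_right (by norm_num)).1 hc
  obtain ⟨A, hA⟩ := Sylow.exists_subgroup_card_pow_prime (G := E) 3 (n := 4) (by rw [hk]; exact pow_dvd_pow 3 hk4)
  have hAE : A.map E.subtype ≤ E := by
    rintro _ ⟨a, -, rfl⟩
    exact a.2
  have h81 : IsE81 (A.map E.subtype) :=
    { comm := fun a ha b hb => by
        have := hE.is_comm.comm ⟨a, hAE ha⟩ ⟨b, hAE hb⟩
        exact congrArg Subtype.val this
      cube := fun a ha => hEp a (hAE ha)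
      card := by rw [Subgroup.card_map_of_injective E.subtype_injective, hA]; norm_num }
  apply hT1
  apply hK.nop _ h81 T
  · intro h3
    have hT' : IsPGroup 2 T := hT
    have h2F := Fact.mk Nat.prime_two
    obtain ⟨j, hj⟩ := (IsPGroup.iff_card (p := 2)).1 hT'
    rw [hj] at h3
    have := (Nat.prime_dvd_prime_iff_eq Nat.prime_three Nat.prime_two).1 (Nat.prime_three.dvd_of_dvd_pow h3)
    omega
  · intro a ha u hu
    exact (mem_normalizer_iff.1 (hn (hAE ha)) u).1 hu

namespace Om

open Cfsg.Agent.LieClassical Cfsg.Agent.LieClassical.OrthForms Cfsg.Agent.Sigma.Orth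

variable {F : Type} [Field F] [Fintype F]

theorem charTwo (h : ¬ Odd (Fintype.card F)) : CharP F 2 := by
  have h1 : Fintype.card F % 2 = 0 := by
    rw [Nat.not_odd_iff_even] at h
    exact Nat.even_iff.1 h
  rw [← FiniteField.even_card_iff_char_two] at h1
  rw [← h1]
  exact ringChar.charP F

/-- the vector `w` -/
theorem exists_ani [CharP F 2] (hq : Fintype.card F % 3 = 2) {a b : F}
    (hab : ∀ z₁ z₂ : F, z₁ ^ 2 + a * z₁ * z₂ + b * z₂ ^ 2 = 0 → z₁ = 0 ∧ z₂ = 0) :
    ∃ s t : F, a * t = 1 ∧ s ^ 2 + a * s * t + b * t ^ 2 = 1 := by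
  have h2 : (2 : F) = 0 := CharTwo.two_eq_zero
  have ha : a ≠ 0 := by
    rintro rfl
    obtain ⟨r, hr⟩ := (bijective_frobenius F 2).surjective b
    refine absurd (hab r 1 ?_).2 one_ne_zero
    rw [← hr, frobenius_def]
    linear_combination r ^ 2 * h2
  let f : F →+ F :=
    { toFun := fun s => s ^ 2 + s
      map_zero' := by ring
      map_add' := fun x y => by linear_combination x * y * h2 }
  have hker : Nat.card f.ker = 2 := by
    have h1 : (f.ker : Set F) = {0, 1} := by
      ext s
      constructor
      · intro hs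
        have h3 : s * (s + 1) = 0 := by
          have : s ^ 2 + s = 0 := hs
          linear_combination this
        rcases mul_eq_zero.1 h3 with h4 | h4
        · exact Or.inl h4
        · refine Or.inr ?_
          change s = 1
          linear_combination h4 - h2
      · rintro (rfl | rfl)
        · exact f.ker.zero_mem
        · change (1 : F) ^ 2 + 1 = 0
          linear_combination h2
    have h3 : Nat.card f.ker = Set.ncard ({0, 1} : Set F) := by rw [← h1]; rfl
    rw [h3, Set.ncard_pair zero_ne_one]
  have hidx : f.range.index = 2 := by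
    have h3 := f.range.card_mul_index
    have h4 := f.ker.card_mul_index
    rw [AddSubgroup.index_ker, hker, mul_comm] at h4
    have h5 : 0 < Nat.card f.range := Nat.card_pos
    exact Nat.eq_of_mul_eq_mul_left h5 (h3.trans h4.symm)
  have hn1 : (1 : F) ∉ f.range := by
    rintro ⟨s, hs⟩
    have h3 : s ^ 2 + s + 1 = 0 := by
      have : s ^ 2 + s = 1 := hs
      linear_combination this + h2
    have hs0 : s ≠ 0 := by
      rintro rfl
      simp at h3
    have hs3 : s ^ 3 = 1 := by linear_combination (s - 1) * h3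
    have hs1 : s ≠ 1 := by
      rintro rfl
      have : (1 : F) = 0 := by linear_combination h3 - h2
      exact one_ne_zero this
    have h4 : orderOf (Units.mk0 s hs0) = 3 := by
      apply orderOf_eq_prime
      · exact Units.ext (by rw [Units.val_pow_eq_pow_val, Units.val_mk0, hs3, Units.val_one])
      · intro h
        exact hs1 (congrArg Units.val h)
    have h5 : 3 ∣ Nat.card Fˣ := by
      rw [← h4]
      exact orderOf_dvd_natCard _
    rw [Nat.card_units, Nat.card_eq_fintype_card] at h5
    have := Fintype.one_lt_card (α := F)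
    omega
  have hnc : b / a ^ 2 ∉ f.range := by
    rintro ⟨s, hs⟩
    have h3 : s ^ 2 + s = b / a ^ 2 := hs
    refine absurd (hab (a * s) 1 ?_).2 one_ne_zero
    rw [eq_div_iff (pow_ne_zero 2 ha)] at h3
    linear_combination h3 + b * h2
  have hmem : 1 + b / a ^ 2 ∈ f.range := by
    rw [AddSubgroup.add_mem_iff_of_index_two hidx]
    exact ⟨fun h => absurd h hn1, fun h => absurd h hnc⟩
  obtain ⟨s, hs⟩ := hmem
  have h3 : s ^ 2 + s = 1 + b / a ^ 2 := hs
  refine ⟨s, a⁻¹, mul_inv_cancel₀ ha, ?_⟩
  have h4 : a * s * a⁻¹ = s := by field_simp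
  rw [h4, h3, inv_pow, div_eq_mul_inv]
  linear_combination b * (a ^ 2)⁻¹ * h2

/-- no `PΩ⁺` -/
theorem not_plus {K : Type*} [Group K] (hK : Cond K) (h : Cfsg.IsPOmegaPlus K) : False := by
  obtain ⟨F, _, _, m, hm, ⟨e⟩⟩ := h
  by_cases hodd : Odd (Fintype.card F)
  · exact not_plus_odd hK hodd hm e
  · have := charTwo hodd
    rcases Nat.lt_or_ge m 5 with h5 | h5
    · obtain rfl : m = 4 := by omega
      exact plus_four hK e
    · have hQ := nondeg_plusForm m F
      have hd : 5 ≤ Fintype.card (Fin m ⊕ Fin m) := by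
        rw [Fintype.card_sum, Fintype.card_fin]
        omega
      have P := pairs_plus (F := F) (show 5 ≤ m from h5)
      have hw : Wit 3 4 (Cfsg.POmega F (Cfsg.quadFormPlus m F)) := by
        rw [← coe_plusForm]
        exact pomega hQ hd (P.hyp 0).left (P.hyp 0).left_ne (wit_five P)
      exact (hK.congr e).not_wit hw

/-- no `PΩ⁻` -/
theorem not_minus {K : Type*} [Group K] (hK : Cond K) (h : Cfsg.IsPOmegaMinus K) : False := by
  obtain ⟨F, _, _, m, a, b, hm, hab, ⟨e⟩⟩ := h
  rcases Nat.lt_or_ge m 6 with h6 | h6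
  · obtain ⟨rfl, h3⟩ := minus_small hK hm (by omega) hab e
    by_cases hodd : Odd (Fintype.card F)
    · exact not_minus_odd hK hodd (by norm_num) hab e
    · have := charTwo hodd
      have h2 : (2 : F) = 0 := CharTwo.two_eq_zero
      have hQ := nondeg_minusForm 4 F a b hab
      have hd : 5 ≤ Fintype.card ((Fin 4 ⊕ Fin 4) ⊕ Fin 2) := by simp
      have P := pairs_minus (F := F) (show 4 ≤ 4 from le_rfl) a b
      obtain ⟨s, t, ht, hs⟩ := exists_ani h3 hab
      have N : Ani (minusForm 4 F a b)
          (Pi.single (Sum.inr 0) (1 : F) : (Fin 4 ⊕ Fin 4) ⊕ Fin 2 → F)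
          (Pi.single (Sum.inr 0) s + Pi.single (Sum.inr 1) t : (Fin 4 ⊕ Fin 4) ⊕ Fin 2 → F) := by
        refine ⟨?_, ?_, ?_⟩
        · rw [coe_minusForm, quadFormMinus_apply, Finset.sum_eq_zero fun i _ => by simp]
          simp
        · rw [coe_minusForm, quadFormMinus_apply, Finset.sum_eq_zero fun i _ => by simp]
          simp
          exact hs
        · rw [polar_minusForm, Finset.sum_eq_zero fun i _ => by simp]
          simp
          linear_combination ht + s * h2
      have hw : Wit 3 4 (Cfsg.POmega F (Cfsg.quadFormMinus 4 F a b)) := by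
        rw [← coe_minusForm]
        refine pomega hQ hd (P.hyp 0).left (P.hyp 0).left_ne (wit_minus P N (comm_eq hQ hd) ?_ ?_)
        · intro i
          constructor
          · rw [polar_minusForm, Finset.sum_eq_zero fun i _ => by simp]
            simp
          · rw [polar_minusForm, Finset.sum_eq_zero fun i _ => by simp]
            simp
        · intro i
          constructor
          · rw [polar_minusForm, Finset.sum_eq_zero fun i _ => by simp]
            simp
          · rw [polar_minusForm, Finset.sum_eq_zero fun i _ => by simp]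
            simp
      exact (hK.congr e).not_wit hw
  · by_cases hodd : Odd (Fintype.card F)
    · exact not_minus_odd hK hodd (by omega) hab e
    · have := charTwo hodd
      have hQ := nondeg_minusForm (m - 1) F a b hab
      have hd : 5 ≤ Fintype.card ((Fin (m - 1) ⊕ Fin (m - 1)) ⊕ Fin 2) := by
        rw [Fintype.card_sum, Fintype.card_sum, Fintype.card_fin, Fintype.card_fin]
        omega
      have P := pairs_minus (F := F) (show 5 ≤ m - 1 by omega) a b
      have hw : Wit 3 4 (Cfsg.POmega F (Cfsg.quadFormMinus (m - 1) F a b)) := by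
        rw [← coe_minusForm]
        exact pomega hQ hd (P.hyp 0).left (P.hyp 0).left_ne (wit_five P)
      exact (hK.congr e).not_wit hw

end Om

end Cfsg.Agent.H846.Elim
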