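import Cfsg.Agent.H846.Elim.PSUd
import Cfsg.Agent.OddHalf.LongSL.Orth
import Cfsg.Agent.S0292
import Cfsg.Agent.S0293
import Cfsg.Agent.S0294

/-!
# `Cond` fails for orthogonal groups of odd characteristic (helper846)
-/

set_option autoImplicit false

namespace Cfsg.Agent.H846.Elim.Om

open Subgroup Val QuadraticMap
open Matrix (SpecialLinearGroup)
open Cfsg.Agent.LieClassical Cfsg.Agent.LieClassical.OrthCore Cfsg.Agent.LieClassical.OrthTrans
open Cfsg.Agent.LieClassical.OrthSimple Cfsg.Agent.LieClassical.OrthFinite Cfsg.Agent.LieClassical.OrthForms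
open Cfsg.Agent.TitsThree Cfsg.Agent.TitsThree.Siegel Cfsg.Agent.TitsThree.SiegelGen
  Cfsg.Agent.TitsThree.WittFrame Cfsg.Agent.TitsThree.WittWeyl Cfsg.Agent.TitsThree.WBridge
  Cfsg.Agent.TitsThree.KSideO
open Cfsg.Agent.Nodes
open Cfsg.Agent.Nodes.RGDOrth
open Cfsg.Agent.OddHalf.LongSL.OrthPhi
open Cfsg.Agent.OddHalf.LongSL.Orth (phiP phiP_apply phiP_injective Phi_mem)

section

variable {F V : Type*} [Field F] [AddCommGroup V] [Module F V] {Q : QuadraticForm F V} {ι : Type*} [DecidableEq ι]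
  (Fr : Frame (HO Q) ι)

/-- the two types on the same planes commute -/
theorem comm_LR {x y : ι × Bool} (hxy : x.1 ≠ y.1) (M N : SpecialLinearGroup (Fin 2) F) (v : V) :
    phiFun Fr x y M (phiFun Fr x (neg y) N v) = phiFun Fr x (neg y) N (phiFun Fr x y M v) := by
  have hny : neg (neg y) = y := by
    obtain ⟨i, s⟩ := y
    simp [neg]
  have hxy' : x.1 ≠ (neg y).1 := hxy
  have a1 := polar_nx Fr hxy M v
  have a2 := polar_y Fr hxy M v
  have a3 := polar_x Fr hxy M v
  have a4 := polar_ny Fr hxy M v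
  have b1 := polar_nx Fr hxy' N v
  have b2 := polar_y Fr hxy' N v
  have b3 := polar_x Fr hxy' N v
  have b4 := polar_ny Fr hxy' N v
  rw [hny] at b4 b3
  conv_lhs => rw [phiFun, b1, b2, b3, b4]
  conv_rhs => rw [phiFun, hny, a1, a2, a3, a4]
  unfold phiFun
  rw [hny]
  module

/-- disjoint planes -/
theorem comm_disj {x y x' y' : ι × Bool} (h1 : x.1 ≠ x'.1) (h2 : x.1 ≠ y'.1) (h3 : y.1 ≠ x'.1) (h4 : y.1 ≠ y'.1)
    (M N : SpecialLinearGroup (Fin 2) F) (v : V) :
    phiFun Fr x y M (phiFun Fr x' y' N v) = phiFun Fr x' y' N (phiFun Fr x y M v) := by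
  have key : ∀ (x y x' y' : ι × Bool) (M : SpecialLinearGroup (Fin 2) F) (v : V) (w : ι × Bool), x.1 ≠ w.1 → y.1 ≠ w.1 →
      polar Q (phiFun Fr x y M v) (Fr.b w) = polar Q v (Fr.b w) := by
    intro x y x' y' M v w h1 h2
    unfold phiFun
    simp only [polar_add_left, polar_smul_left, smul_eq_mul]
    rw [p_ne Fr (z := x) (w := w) h1, p_ne Fr (z := neg x) (w := w) h1, p_ne Fr (z := y) (w := w) h2,
      p_ne Fr (z := neg y) (w := w) h2]
    ring
  have a1 := key x' y' x y N v x h1.symm h2.symm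
  have a2 := key x' y' x y N v (neg x) h1.symm h2.symm
  have a3 := key x' y' x y N v y h3.symm h4.symm
  have a4 := key x' y' x y N v (neg y) h3.symm h4.symm
  have b1 := key x y x' y' M v x' h1 h3
  have b2 := key x y x' y' M v (neg x') h1 h3
  have b3 := key x y x' y' M v y' h2 h4
  have b4 := key x y x' y' M v (neg y') h2 h4
  conv_lhs => rw [phiFun, a1, a2, a3, a4]
  conv_rhs => rw [phiFun, b1, b2, b3, b4]
  unfold phiFun
  module

end

section

variable {ι : Type} [Fintype ι] [DecidableEq ι] {F : Type} [Field F] [Fintype F] {Q : QuadraticForm F (ι → F)}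
  {m : ℕ}

/-- the signed indices -/
def xi (hm : 4 ≤ m) (i : Fin 4) : Fin m × Bool := (⟨if (i : ℕ) < 2 then 0 else 2, by split_ifs <;> omega⟩, true)

/-- the signed indices -/
def yi (hm : 4 ≤ m) (i : Fin 4) : Fin m × Bool :=
  (⟨if (i : ℕ) < 2 then 1 else 3, by split_ifs <;> omega⟩, decide ((i : ℕ) % 2 = 0))

theorem xy (hm : 4 ≤ m) (i : Fin 4) : (xi hm i).1 ≠ (yi hm i).1 := by
  intro h
  have := congrArg Fin.val h
  simp only [xi, yi] at this
  split_ifs at this
  omega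

theorem Phi_comm (W : WFrame (PO Q) m) (hm : 4 ≤ m) {i j : Fin 4} (hij : i ≠ j) (M N : SpecialLinearGroup (Fin 2) F) :
    Phi (toFrame W) (xy hm i) M * Phi (toFrame W) (xy hm j) N = Phi (toFrame W) (xy hm j) N * Phi (toFrame W) (xy hm i) M := by
  ext1 v
  change phiFun (toFrame W) (xi hm i) (yi hm i) M (phiFun (toFrame W) (xi hm j) (yi hm j) N v) =
    phiFun (toFrame W) (xi hm j) (yi hm j) N (phiFun (toFrame W) (xi hm i) (yi hm i) M v)
  have e1 : xi hm 0 = xi hm 1 := by simp [xi]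
  have e2 : xi hm 2 = xi hm 3 := by simp [xi]
  have f1 : yi hm 1 = neg (yi hm 0) := by simp [yi, neg]
  have f2 : yi hm 3 = neg (yi hm 2) := by simp [yi, neg]
  have g : ∀ i j : Fin 4, ((i : ℕ) < 2 ∧ ¬ (j : ℕ) < 2) ∨ ((j : ℕ) < 2 ∧ ¬ (i : ℕ) < 2) →
      (xi hm i).1 ≠ (xi hm j).1 ∧ (xi hm i).1 ≠ (yi hm j).1 ∧ (yi hm i).1 ≠ (xi hm j).1 ∧ (yi hm i).1 ≠ (yi hm j).1 := by
    intro i j h
    simp only [xi, yi, ne_eq, Fin.mk.injEq]
    rcases h with ⟨h1, h2⟩ | ⟨h1, h2⟩ <;> simp [h1, h2]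
  by_cases hd : ((i : ℕ) < 2 ∧ ¬ (j : ℕ) < 2) ∨ ((j : ℕ) < 2 ∧ ¬ (i : ℕ) < 2)
  · obtain ⟨h1, h2, h3, h4⟩ := g i j hd
    exact comm_disj (toFrame W) h1 h2 h3 h4 M N v
  · have h0 := xy hm 0
    have h2 := xy hm 2
    fin_cases i <;> fin_cases j <;> simp at hd hij
    · change phiFun (toFrame W) (xi hm 0) (yi hm 0) M (phiFun (toFrame W) (xi hm 1) (yi hm 1) N v) =
        phiFun (toFrame W) (xi hm 1) (yi hm 1) N (phiFun (toFrame W) (xi hm 0) (yi hm 0) M v)
      rw [f1, ← e1]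
      exact comm_LR (toFrame W) h0 M N v
    · change phiFun (toFrame W) (xi hm 1) (yi hm 1) M (phiFun (toFrame W) (xi hm 0) (yi hm 0) N v) =
        phiFun (toFrame W) (xi hm 0) (yi hm 0) N (phiFun (toFrame W) (xi hm 1) (yi hm 1) M v)
      rw [f1, ← e1]
      exact (comm_LR (toFrame W) h0 N M v).symm
    · change phiFun (toFrame W) (xi hm 2) (yi hm 2) M (phiFun (toFrame W) (xi hm 3) (yi hm 3) N v) =
        phiFun (toFrame W) (xi hm 3) (yi hm 3) N (phiFun (toFrame W) (xi hm 2) (yi hm 2) M v)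
      rw [f2, ← e2]
      exact comm_LR (toFrame W) h2 M N v
    · change phiFun (toFrame W) (xi hm 3) (yi hm 3) M (phiFun (toFrame W) (xi hm 2) (yi hm 2) N v) =
        phiFun (toFrame W) (xi hm 2) (yi hm 2) N (phiFun (toFrame W) (xi hm 3) (yi hm 3) M v)
      rw [f2, ← e2]
      exact (comm_LR (toFrame W) h2 N M v).symm

/-- the four commuting subgroups -/
noncomputable def ff (W : WFrame (PO Q) m) (hG : Good Q) (hm : 4 ≤ m) : (Fin 4 → SL2 F) →* Cfsg.POmega F ⇑Q :=
  MonoidHom.noncommPiCoprod (fun i : Fin 4 => phiP W hG (xy hm i)) (by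
    intro i j hij M N
    change phiP W hG (xy hm i) M * phiP W hG (xy hm j) N = phiP W hG (xy hm j) N * phiP W hG (xy hm i) M
    rw [phiP_apply, phiP_apply, ← map_mul, ← map_mul]
    congr 1
    exact Subtype.ext (Phi_comm W hm hij M N))

theorem ff_single (W : WFrame (PO Q) m) (hG : Good Q) (hm : 4 ≤ m) (i : Fin 4) (c : SL2 F) :
    ff W hG hm (Pi.mulSingle i c) = phiP W hG (xy hm i) c := MonoidHom.noncommPiCoprod_mulSingle _ _ _

theorem ff_inj (W : WFrame (PO Q) m) (hG : Good Q) (hm : 4 ≤ m) (i : Fin 4) (c : SL2 F)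
    (h : ff W hG hm (Pi.mulSingle i c) = 1) : c = 1 := by
  rw [ff_single] at h
  have hz : ∃ z : Fin m × Bool, z.1 ≠ (xi hm i).1 ∧ z.1 ≠ (yi hm i).1 := by
    by_cases h2 : (i : ℕ) < 2
    · refine ⟨(⟨2, by omega⟩, true), ?_, ?_⟩ <;> simp [xi, yi, h2]
    · refine ⟨(⟨0, by omega⟩, true), ?_, ?_⟩ <;> simp [xi, yi, h2]
  obtain ⟨z, hz1, hz2⟩ := hz
  exact phiP_injective W hG (xy hm i) hz1 hz2 (by rw [h, map_one])

theorem odd_contra {K : Type*} [Group K] (hK : Cond K) (W : WFrame (PO Q) m) (hG : Good Q) (hm : 4 ≤ m)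
    (h2 : (2 : F) ≠ 0) (e : K ≃* Cfsg.POmega F ⇑Q) : False := by
  refine pi4_odd (hK.congr e) (ff W hG hm) (fun i c h => Or.inl (ff_inj W hG hm i c h)) ?_
  intro h
  exact Cfsg.Agent.OddHalf.LongSL.neg_one_ne h2 (ff_inj W hG hm 0 _ h)

end

theorem two_ne {F : Type*} [Field F] [Fintype F] (h : Odd (Fintype.card F)) : (2 : F) ≠ 0 :=
  Cfsg.Agent.OddHalf.LongSL.two_ne_of_odd h

/-- no `PΩ_{2m+1}(q)` -/
theorem not_odd {K : Type*} [Group K] (hK : Cond K) (h : Cfsg.IsPOmegaOdd K) : False := by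
  obtain ⟨F, _, _, m, hm, hodd, ⟨e⟩⟩ := h
  have hq : 2 ≤ Fintype.card F := Fintype.one_lt_card
  rcases Nat.lt_or_ge m 4 with hm4 | hm4
  · obtain rfl : m = 3 := by omega
    have h1 := S0292.result (F := F) rfl hodd 3 le_rfl
    have h2 := (hK.congr e).v_card
    have h3 := (hK.congr e).fin
    have h4 : Nat.card (Cfsg.POmega F (Cfsg.quadFormOdd 3 F)) ≠ 0 := Nat.card_pos.ne'
    have h9 : ∀ i ∈ Finset.range 3, Fintype.card F ^ (2 * (i + 1)) - 1 ≠ 0 := fun i _ => sub_ne hq (by omega)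
    have h10 := congrArg v h1
    rw [v_mul (by norm_num) h4, v_two, h2, v_mul (pow_ne_zero _ (by omega)) (Finset.prod_ne_zero_iff.2 h9), v_pow,
      v_prod _ _ h9] at h10
    by_cases h3 : Fintype.card F % 3 = 0
    · have h1 : ∀ i ∈ Finset.range 3, v (Fintype.card F ^ (2 * (i + 1)) - 1) = 0 := fun i _ =>
        v_sub_three h3 hq (by omega)
      rw [Finset.sum_eq_zero h1] at h10
      omega
    · have h1 : ∀ i ∈ Finset.range 3, v (Fintype.card F ^ (2 * (i + 1)) - 1) =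
          v (Fintype.card F ^ 2 - 1) + v (i + 1) := fun i _ => v_even h3 hq (by omega)
      rw [Finset.sum_congr rfl h1, v_of_not h3, mul_zero, zero_add, Finset.sum_range_succ, Finset.sum_range_succ,
        Finset.sum_range_one, zero_add, v_one, show 1 + 1 = 2 from rfl, v_two, show 2 + 1 = 3 from rfl, v_three] at h10
      omega
  · have h2 := two_ne hodd
    have e' : Nonempty (K ≃* Cfsg.POmega F ⇑(oddForm m F)) := by
      rw [coe_oddForm]
      exact ⟨e⟩
    obtain ⟨e'⟩ := e'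
    have hG : Good (oddForm m F) := by
      apply good_of_finite (nondeg_oddForm m F h2)
      rw [Module.finrank_fintype_fun_eq_card, Fintype.card_sum, Fintype.card_sum, Fintype.card_fin,
        Fintype.card_unit]
      omega
    exact odd_contra hK (wodd m F) hG hm4 h2 e'

/-- `PΩ⁺` in odd characteristic -/
theorem not_plus_odd {K : Type*} [Group K] (hK : Cond K) {F : Type} [Field F] [Fintype F] (hodd : Odd (Fintype.card F))
    {m : ℕ} (hm : 4 ≤ m) (e : K ≃* Cfsg.POmega F (Cfsg.quadFormPlus m F)) : False := by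
  have h2 := two_ne hodd
  rw [← coe_plusForm] at e
  have hG : Good (plusForm m F) := by
    apply good_of_finite (nondeg_plusForm m F)
    rw [Module.finrank_fintype_fun_eq_card, Fintype.card_sum, Fintype.card_fin]
    omega
  exact odd_contra hK (wplus m F) hG hm h2 e

/-- `PΩ⁻` in odd characteristic -/
theorem not_minus_odd {K : Type*} [Group K] (hK : Cond K) {F : Type} [Field F] [Fintype F] (hodd : Odd (Fintype.card F))
    {m : ℕ} (hm : 4 ≤ m) {a b : F} (hab : ∀ z₁ z₂ : F, z₁ ^ 2 + a * z₁ * z₂ + b * z₂ ^ 2 = 0 → z₁ = 0 ∧ z₂ = 0)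
    (e : K ≃* Cfsg.POmega F (Cfsg.quadFormMinus m F a b)) : False := by
  have h2 := two_ne hodd
  rw [← coe_minusForm] at e
  have hG : Good (minusForm m F a b) := by
    apply good_of_finite (nondeg_minusForm m F a b hab)
    rw [Module.finrank_fintype_fun_eq_card, Fintype.card_sum, Fintype.card_sum, Fintype.card_fin,
      Fintype.card_fin]
    omega
  exact odd_contra hK (wminus m F a b hab) hG hm h2 e

/-- the order of `PΩ⁺_8(q)` -/
theorem plus_four {K : Type*} [Group K] (hK : Cond K) {F : Type} [Field F] [Fintype F]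
    (e : K ≃* Cfsg.POmega F (Cfsg.quadFormPlus 4 F)) : False := by
  have hq : 2 ≤ Fintype.card F := Fintype.one_lt_card
  have h1 := S0293.result (F := F) rfl 4 le_rfl
  have h2 := (hK.congr e).v_card
  have h3 := (hK.congr e).fin
  have h4 : Nat.card (Cfsg.POmega F (Cfsg.quadFormPlus 4 F)) ≠ 0 := Nat.card_pos.ne'
  have hg : Nat.gcd 4 (Fintype.card F ^ 4 - 1) ≠ 0 := by
    intro h
    have := Nat.eq_zero_of_gcd_eq_zero_left h
    omega
  have hg3 : v (Nat.gcd 4 (Fintype.card F ^ 4 - 1)) = 0 := by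
    have := PSU.v_gcd_le (n := 4) (m := Fintype.card F ^ 4 - 1) (by norm_num)
    rw [v_four] at this
    omega
  have h9 : ∀ i ∈ Finset.range (4 - 1), Fintype.card F ^ (2 * (i + 1)) - 1 ≠ 0 := fun i _ => sub_ne hq (by omega)
  have h8 : Fintype.card F ^ 4 - 1 ≠ 0 := sub_ne hq (by omega)
  have h7 : Fintype.card F ^ (4 * (4 - 1)) ≠ 0 := pow_ne_zero _ (by omega)
  have h10 := congrArg v h1
  rw [v_mul hg h4, hg3, h2, v_mul (mul_ne_zero h7 h8) (Finset.prod_ne_zero_iff.2 h9), v_mul h7 h8, v_pow,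
    v_prod _ _ h9] at h10
  by_cases h3 : Fintype.card F % 3 = 0
  · have h1 : ∀ i ∈ Finset.range (4 - 1), v (Fintype.card F ^ (2 * (i + 1)) - 1) = 0 := fun i _ =>
      v_sub_three h3 hq (by omega)
    rw [Finset.sum_eq_zero h1, v_sub_three h3 hq (by omega)] at h10
    omega
  · have h1 : ∀ i ∈ Finset.range (4 - 1), v (Fintype.card F ^ (2 * (i + 1)) - 1) =
        v (Fintype.card F ^ 2 - 1) + v (i + 1) := fun i _ => v_even h3 hq (by omega)
    have h5 : v (Fintype.card F ^ 4 - 1) = v (Fintype.card F ^ 2 - 1) + v 2 := v_even (k := 2) h3 hq (by omega)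
    rw [Finset.sum_congr rfl h1, v_of_not h3, mul_zero, zero_add, h5, show 4 - 1 = 3 from rfl, Finset.sum_range_succ,
      Finset.sum_range_succ, Finset.sum_range_one, zero_add, v_one, show 1 + 1 = 2 from rfl, v_two,
      show 2 + 1 = 3 from rfl, v_three] at h10
    omega

/-- the orders of `PΩ⁻_8(q)` and `PΩ⁻_10(q)` -/
theorem minus_small {K : Type*} [Group K] (hK : Cond K) {F : Type} [Field F] [Fintype F] {m : ℕ} (hm : 4 ≤ m) (hm5 : m ≤ 5)
    {a b : F} (hab : ∀ z₁ z₂ : F, z₁ ^ 2 + a * z₁ * z₂ + b * z₂ ^ 2 = 0 → z₁ = 0 ∧ z₂ = 0)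
    (e : K ≃* Cfsg.POmega F (Cfsg.quadFormMinus (m - 1) F a b)) : m = 5 ∧ Fintype.card F % 3 = 2 := by
  have hq : 2 ≤ Fintype.card F := Fintype.one_lt_card
  have h1 := S0294.result (F := F) rfl m hm a b hab
  have h2 := (hK.congr e).v_card
  have h3 := (hK.congr e).fin
  have h4 : Nat.card (Cfsg.POmega F (Cfsg.quadFormMinus (m - 1) F a b)) ≠ 0 := Nat.card_pos.ne'
  have hg : Nat.gcd 4 (Fintype.card F ^ m + 1) ≠ 0 := by
    intro h
    have := Nat.eq_zero_of_gcd_eq_zero_left h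
    omega
  have hg3 : v (Nat.gcd 4 (Fintype.card F ^ m + 1)) = 0 := by
    have := PSU.v_gcd_le (n := 4) (m := Fintype.card F ^ m + 1) (by norm_num)
    rw [v_four] at this
    omega
  have h9 : ∀ i ∈ Finset.range (m - 1), Fintype.card F ^ (2 * (i + 1)) - 1 ≠ 0 := fun i _ => sub_ne hq (by omega)
  have h8 : Fintype.card F ^ m + 1 ≠ 0 := by omega
  have h7 : Fintype.card F ^ (m * (m - 1)) ≠ 0 := pow_ne_zero _ (by omega)
  have h10 := congrArg v h1
  rw [v_mul hg h4, hg3, h2, v_mul (mul_ne_zero h7 h8) (Finset.prod_ne_zero_iff.2 h9), v_mul h7 h8, v_pow,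
    v_prod _ _ h9] at h10
  by_cases h3 : Fintype.card F % 3 = 0
  · have h1 : ∀ i ∈ Finset.range (m - 1), v (Fintype.card F ^ (2 * (i + 1)) - 1) = 0 := fun i _ =>
      v_sub_three h3 hq (by omega)
    rw [Finset.sum_eq_zero h1, v_add_three h3 (by omega)] at h10
    exfalso
    interval_cases m <;> omega
  · have h1 : ∀ i ∈ Finset.range (m - 1), v (Fintype.card F ^ (2 * (i + 1)) - 1) =
        v (Fintype.card F ^ 2 - 1) + v (i + 1) := fun i _ => v_even h3 hq (by omega)
    rw [Finset.sum_congr rfl h1, v_of_not h3, mul_zero, zero_add] at h10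
    by_contra hcon
    have h12 : Fintype.card F % 3 = 1 ∨ Fintype.card F % 3 = 2 := by omega
    interval_cases m
    · have h5 : v (Fintype.card F ^ 4 + 1) = 0 := by
        rcases h12 with h | h
        · exact v_plus_one h
        · exact v_plus_even h (by norm_num)
      rw [h5, show 4 - 1 = 3 from rfl, Finset.sum_range_succ,
        Finset.sum_range_succ, Finset.sum_range_one, zero_add, v_one, show 1 + 1 = 2 from rfl, v_two,
        show 2 + 1 = 3 from rfl, v_three] at h10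
      omega
    · have h5 : v (Fintype.card F ^ 5 + 1) = 0 := v_plus_one (h12.resolve_right fun h => hcon ⟨rfl, h⟩)
      rw [h5, show 5 - 1 = 4 from rfl, Finset.sum_range_succ, Finset.sum_range_succ,
        Finset.sum_range_succ, Finset.sum_range_one, zero_add, v_one, show 1 + 1 = 2 from rfl, v_two,
        show 2 + 1 = 3 from rfl, v_three, show 3 + 1 = 4 from rfl, v_four] at h10
      omega

end Cfsg.Agent.H846.Elim.Om
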