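import Cfsg.Agent.H846.Elim.Pi

/-!
# `Cond` fails for `PSL_n(q)`, `n ≥ 10`, and for `n ≥ 6`, `q ≡ 1 (mod 3)` (helper846)
-/

set_option autoImplicit false

namespace Cfsg.Agent.H846.Elim.PSL

open Subgroup Matrix
open Cfsg.Agent.Sigma.Symp (three three_pow upper coe_upper dia coe_dia dia_mul dia_one dia_pow upper_injective dia_upper)

variable {F : Type*} [Field F]

/-- change of the index set -/
def re {ι κ : Type*} [Fintype ι] [DecidableEq ι] [Fintype κ] [DecidableEq κ] (e : ι ≃ κ) (F : Type*) [Field F] :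
    SpecialLinearGroup ι F →* SpecialLinearGroup κ F where
  toFun A := ⟨reindex e e A.1, by rw [det_reindex_self]; exact A.2⟩
  map_one' := Subtype.ext (by simp)
  map_mul' A B := Subtype.ext (by
    change reindex e e (A.1 * B.1) = reindex e e A.1 * reindex e e B.1
    simp [Matrix.submatrix_mul_equiv])

/-- block diagonal matrices -/
def bd (m : ℕ) (κ : Type*) [Fintype κ] [DecidableEq κ] (F : Type*) [Field F] :
    (Fin m → SL2 F) →* SpecialLinearGroup ((Fin 2 × Fin m) ⊕ κ) F where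
  toFun A := ⟨fromBlocks (blockDiagonal fun i => (A i).1) 0 0 1, by
    rw [det_fromBlocks_zero₂₁, det_one, mul_one, det_blockDiagonal]
    exact Finset.prod_eq_one fun i _ => (A i).2⟩
  map_one' := Subtype.ext (by
    change fromBlocks (blockDiagonal fun i => ((1 : SL2 F) : Matrix (Fin 2) (Fin 2) F)) 0 0 1 = 1
    rw [← fromBlocks_one]
    congr 1
    rw [Matrix.SpecialLinearGroup.coe_one]
    exact blockDiagonal_one)
  map_mul' A B := Subtype.ext (by
    change fromBlocks (blockDiagonal fun i => (A i).1 * (B i).1) 0 0 1 =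
      fromBlocks (blockDiagonal fun i => (A i).1) 0 0 1 * fromBlocks (blockDiagonal fun i => (B i).1) 0 0 1
    rw [fromBlocks_multiply]
    simp [blockDiagonal_mul])

/-- block diagonal matrices in `PSL` -/
def ff (m n : ℕ) (κ : Type*) [Fintype κ] [DecidableEq κ] (e : (Fin 2 × Fin m) ⊕ κ ≃ Fin n) (F : Type*) [Field F] :
    (Fin m → SL2 F) →* ProjectiveSpecialLinearGroup (Fin n) F :=
  (QuotientGroup.mk' _).comp ((re e F).comp (bd m κ F))

theorem ff_ker {m n : ℕ} {κ : Type*} [Fintype κ] [DecidableEq κ] {e : (Fin 2 × Fin m) ⊕ κ ≃ Fin n}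
    {A : Fin m → SL2 F} (h : ff m n κ e F A = 1) :
    ∃ r : F, (∀ i, (A i : Matrix (Fin 2) (Fin 2) F) = scalar (Fin 2) r) ∧ ∀ _ : κ, r = 1 := by
  have h1 : re e F (bd m κ F A) ∈ center (SpecialLinearGroup (Fin n) F) := (QuotientGroup.eq_one_iff _).1 h
  rw [Matrix.SpecialLinearGroup.mem_center_iff] at h1
  obtain ⟨r, -, hr⟩ := h1
  have h2 : ∀ x y : (Fin 2 × Fin m) ⊕ κ, (bd m κ F A).1 x y =
      scalar ((Fin 2 × Fin m) ⊕ κ) r x y := by
    intro x y
    have h3 := congrFun (congrFun hr (e x)) (e y)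
    have h4 : ((re e F (bd m κ F A) : Matrix.SpecialLinearGroup _ F) : Matrix _ _ F) (e x) (e y) =
        (bd m κ F A).1 x y := by
      change reindex e e _ (e x) (e y) = _
      simp
    rw [← h4, ← h3]
    simp [scalar_apply, diagonal_apply]
  refine ⟨r, fun i => ?_, fun k => ?_⟩
  · ext a b
    have h3 := h2 (Sum.inl (a, i)) (Sum.inl (b, i))
    have h4 : (bd m κ F A).1 (Sum.inl (a, i)) (Sum.inl (b, i)) = A i a b := by
      change fromBlocks (blockDiagonal fun i => (A i).1) 0 0 1 (Sum.inl (a, i)) (Sum.inl (b, i)) = _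
      rw [fromBlocks_apply₁₁, blockDiagonal_apply_eq]
    rw [← h4, h3]
    simp [scalar_apply, diagonal_apply]
  · have h3 := h2 (Sum.inr k) (Sum.inr k)
    have h4 : (bd m κ F A).1 (Sum.inr k) (Sum.inr k) = 1 := by
      change fromBlocks (blockDiagonal fun i => (A i).1) 0 0 1 (Sum.inr k) (Sum.inr k) = _
      rw [fromBlocks_apply₂₂, one_apply_eq]
    rw [h4] at h3
    simpa [scalar_apply, diagonal_apply] using h3.symm

/-- the kernel for one block, if there is another one -/
theorem ff_single {m n : ℕ} {κ : Type*} [Fintype κ] [DecidableEq κ] {e : (Fin 2 × Fin m) ⊕ κ ≃ Fin n}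
    {i : Fin m} {c : SL2 F} (h : ff m n κ e F (Pi.mulSingle i c) = 1) (hi : Nonempty κ ∨ ∃ j, j ≠ i) : c = 1 := by
  obtain ⟨r, h1, h2⟩ := ff_ker h
  have hr : r = 1 := by
    rcases hi with ⟨⟨k⟩⟩ | ⟨j, hj⟩
    · exact h2 k
    · have h3 := h1 j
      rw [Pi.mulSingle_eq_of_ne hj] at h3
      have h4 := congrFun (congrFun h3 0) 0
      simpa [scalar_apply, diagonal_apply] using h4.symm
  have h3 := h1 i
  rw [Pi.mulSingle_eq_same, hr, map_one] at h3
  exact Subtype.ext h3

theorem big {K : Type*} [Group K] (hK : Cond K) {n : ℕ} (hn : 10 ≤ n) (e : K ≃* ProjectiveSpecialLinearGroup (Fin n) F) :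
    False := by
  have e' : (Fin 2 × Fin 5) ⊕ Fin (n - 10) ≃ Fin n := Fintype.equivFinOfCardEq (by simp; omega)
  refine pi5 (hK.congr e) (ff 5 n (Fin (n - 10)) e' F) ?_
  intro i c hc
  refine Or.inl (ff_single hc (Or.inr ?_))
  by_cases hi : i = 0
  · exact ⟨1, by rw [hi]; decide⟩
  · exact ⟨0, Ne.symm hi⟩

end Cfsg.Agent.H846.Elim.PSL
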