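import Cfsg.Agent.H846.Elim.PSLa

/-!
# `Cond` fails for `PSL_6(q)`, `q ≡ 1 (mod 3)` (helper846)
-/

set_option autoImplicit false

namespace Cfsg.Agent.H846.Elim

open Subgroup Matrix

/-- the quotient by the centre -/
theorem four_of_center {H : Type*} [Group H] {x g c : Fin 4 → H} (hx : ∀ i, x i ^ 3 = 1)
    (hc : ∀ i j, x i * x j = x j * x i) (hf : ∀ i j, i ≠ j → g i * x j = x j * g i)
    (hm : ∀ i, g i * x i = c i * (x i * g i)) (hcen : ∀ i, c i ∉ center H) :
    Four (fun i => (QuotientGroup.mk' (center H)) (x i)) (fun i => MulAut.conj (QuotientGroup.mk' (center H) (g i))) where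
  cube i := by rw [← map_pow, hx, map_one]
  comm i j := by rw [← map_mul, ← map_mul, hc]
  fix i j hij := by
    change (QuotientGroup.mk' (center H) (g i)) * (QuotientGroup.mk' (center H) (x j)) *
      (QuotientGroup.mk' (center H) (g i))⁻¹ = _
    rw [← map_mul, hf i j hij, map_mul, mul_assoc, mul_inv_cancel, mul_one]
  move i := by
    intro h
    change (QuotientGroup.mk' (center H) (g i)) * (QuotientGroup.mk' (center H) (x i)) *
      (QuotientGroup.mk' (center H) (g i))⁻¹ = _ at h
    rw [mul_inv_eq_iff_eq_mul, ← map_mul, ← map_mul, hm, map_mul] at h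
    have h1 : QuotientGroup.mk' (center H) (c i) = 1 := by
      have := mul_right_cancel (a := QuotientGroup.mk' (center H) (c i)) (c := 1) (by rw [one_mul]; exact h)
      exact this
    exact hcen i ((QuotientGroup.eq_one_iff _).1 h1)

namespace PSL

variable {F : Type*} [Field F]

theorem diag_comm {ι : Type*} [Fintype ι] [DecidableEq ι] (d : ι → F) (M : Matrix ι ι F)
    (h : ∀ a b, a ≠ b → M a b ≠ 0 → d a = d b) : diagonal d * M = M * diagonal d := by
  ext a b
  rw [diagonal_mul, mul_diagonal]
  rcases eq_or_ne a b with rfl | hab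
  · ring
  · by_cases hM : M a b = 0
    · rw [hM]; ring
    · rw [h a b hab hM]; ring

/-- transvections -/
def tv {n : ℕ} {i j : Fin n} (hij : i ≠ j) (F : Type*) [Field F] :
    Multiplicative F →* Matrix.SpecialLinearGroup (Fin n) F where
  toFun t := ⟨transvection i j t.toAdd, det_transvection_of_ne i j hij _⟩
  map_one' := Subtype.ext (by simp [transvection])
  map_mul' s t := Subtype.ext (by
    change transvection i j (s.toAdd + t.toAdd) = transvection i j s.toAdd * transvection i j t.toAdd
    rw [transvection_mul_transvection_same i j hij])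

theorem tv_apply {n : ℕ} {i j : Fin n} (hij : i ≠ j) (t : F) (a b : Fin n) :
    (tv hij F (Multiplicative.ofAdd t)).1 a b = (if a = b then 1 else 0) + if a = i ∧ b = j then t else 0 := by
  change transvection i j t a b = _
  rw [transvection, Matrix.add_apply, Matrix.one_apply, Matrix.single_apply]
  congr 1
  simp only [eq_comm (a := i), eq_comm (a := j)]

theorem tv_notMem {n : ℕ} {i j : Fin n} (hij : i ≠ j) {t : F} (ht : t ≠ 0) :
    tv hij F (Multiplicative.ofAdd t) ∉ center (Matrix.SpecialLinearGroup (Fin n) F) := by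
  intro h
  rw [Matrix.SpecialLinearGroup.mem_center_iff] at h
  obtain ⟨r, -, hr⟩ := h
  have h1 := congrFun (congrFun hr i) j
  have h2 := tv_apply hij t i j
  rw [← h1] at h2
  simp [scalar_apply, diagonal_apply, hij] at h2
  exact ht h2.symm

/-- the diagonal entries -/
def dd (w : F) (i : Fin 4) (k : Fin 6) : F := if k = i.castSucc.castSucc then w else if k = 4 then w ^ 2 else 1

theorem prod_dd {w : F} (hw : w ^ 3 = 1) (i : Fin 4) : ∏ k, dd w i k = 1 := by
  have h1 : w * w ^ 2 = 1 := by rw [← pow_succ', hw]
  rw [Fin.prod_univ_six]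
  unfold dd
  fin_cases i <;> repeat (first | rw [if_pos (by decide)] | rw [if_neg (by decide)])
  all_goals linear_combination h1

/-- the diagonal matrices -/
def xx {w : F} (hw : w ^ 3 = 1) (i : Fin 4) : Matrix.SpecialLinearGroup (Fin 6) F :=
  ⟨diagonal (dd w i), by rw [det_diagonal, prod_dd hw]⟩

theorem ne5 (i : Fin 4) : (i.castSucc.castSucc : Fin 6) ≠ 5 := by
  intro h
  have := congrArg Fin.val h
  simp at this
  omega

theorem dd_five (w : F) (i : Fin 4) : dd w i 5 = 1 := by
  rw [dd, if_neg (Ne.symm (ne5 i)), if_neg (by decide)]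

theorem dd_cube {w : F} (hw : w ^ 3 = 1) (i : Fin 4) (k : Fin 6) : dd w i k ^ 3 = 1 := by
  unfold dd
  split_ifs
  · exact hw
  · rw [← pow_mul, mul_comm, pow_mul, hw, one_pow]
  · exact one_pow 3

theorem conj_tv {w : F} (hw : w ^ 3 = 1) (i k : Fin 4) (t : F) :
    xx hw i * tv (ne5 k) F (Multiplicative.ofAdd t) =
      tv (ne5 k) F (Multiplicative.ofAdd (dd w i k.castSucc.castSucc * t)) * xx hw i := by
  apply Subtype.ext
  change diagonal (dd w i) * (tv (ne5 k) F (Multiplicative.ofAdd t)).1 =
    (tv (ne5 k) F (Multiplicative.ofAdd (dd w i k.castSucc.castSucc * t))).1 * diagonal (dd w i)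
  ext a b
  rw [diagonal_mul, mul_diagonal, tv_apply, tv_apply]
  by_cases hab : a = b
  · subst hab
    have h1 : ¬ (a = k.castSucc.castSucc ∧ a = 5) := fun h => ne5 k (h.1 ▸ h.2)
    rw [if_neg h1, if_neg h1]
    ring
  · rw [if_neg hab]
    by_cases h : a = k.castSucc.castSucc ∧ b = 5
    · rw [if_pos h, if_pos h, h.1, h.2, dd_five]
      ring
    · rw [if_neg h, if_neg h]
      ring

theorem six_one [Finite F] {K : Type*} [Group K] (hK : Cond K) (hq3 : ¬ 3 ∣ Nat.card F) (h3 : (3 : F) ≠ 0) {w : F}
    (hw : w ^ 2 + w + 1 = 0) (e : K ≃* ProjectiveSpecialLinearGroup (Fin 6) F) : False := by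
  have hw3 : w ^ 3 = 1 := by linear_combination (w - 1) * hw
  have hw1 : w ≠ 1 := by
    rintro rfl
    apply h3
    linear_combination hw
  have hK' := hK.congr e
  have h4 := four_of_center (H := Matrix.SpecialLinearGroup (Fin 6) F) (x := xx hw3)
    (g := fun k => tv (ne5 k) F (Multiplicative.ofAdd 1))
    (c := fun k => tv (ne5 k) F (Multiplicative.ofAdd (1 - w))) (by
      intro i
      apply Subtype.ext
      change diagonal (dd w i) ^ 3 = 1
      rw [diagonal_pow]
      have : dd w i ^ 3 = 1 := funext fun k => dd_cube hw3 i k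
      rw [this]
      exact diagonal_one) (by
      intro i j
      apply Subtype.ext
      change diagonal _ * diagonal _ = diagonal _ * diagonal _
      rw [diagonal_mul_diagonal, diagonal_mul_diagonal]
      congr 1
      funext k
      ring) (by
      intro i j hij
      rw [conj_tv hw3 j i 1]
      congr 3
      rw [dd, if_neg, if_neg]
      · ring
      · intro h
        have := congrArg Fin.val h
        simp at this
        omega
      · intro h
        apply hij
        have := congrArg Fin.val h
        simp at this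
        exact Fin.ext this) (by
      intro i
      have h1 := conj_tv hw3 i i 1
      rw [dd, if_pos rfl, mul_one] at h1
      rw [h1, ← mul_assoc, ← map_mul, ← ofAdd_add, sub_add_cancel]) (by
      intro i
      exact tv_notMem _ (sub_ne_zero.2 (Ne.symm hw1)))
  let g : Multiplicative F →* ProjectiveSpecialLinearGroup (Fin 6) F :=
    (QuotientGroup.mk' _).comp (tv (ne5 0) F)
  refine h4.contra_prime hK' (U := g.range) ?_ ?_ ?_
  · intro h
    apply hq3
    have h1 : Nat.card g.range ∣ Nat.card (Multiplicative F) := by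
      rw [← Subgroup.index_ker]
      exact Subgroup.index_dvd_card _
    exact h.trans h1
  · intro h
    have h1 : g (Multiplicative.ofAdd 1) ∈ g.range := ⟨_, rfl⟩
    rw [h, mem_bot] at h1
    exact tv_notMem (ne5 0) one_ne_zero ((QuotientGroup.eq_one_iff _).1 h1)
  · rintro i _ ⟨t, rfl⟩
    have h1 := conj_tv hw3 i 0 t.toAdd
    rw [ofAdd_toAdd] at h1
    refine ⟨Multiplicative.ofAdd (dd w i (Fin.castSucc (Fin.castSucc 0)) * t.toAdd), ?_⟩
    have h2 := congrArg (QuotientGroup.mk' (center (Matrix.SpecialLinearGroup (Fin 6) F))) h1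
    rw [map_mul, map_mul] at h2
    rw [eq_mul_inv_iff_mul_eq]
    exact h2.symm

end PSL

end Cfsg.Agent.H846.Elim
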