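import Cfsg.Agent.H846.Elim.PSLb
import Cfsg.Agent.S0243

/-!
# The groups `PSL_n(q)` of order with 3-part `3^6` (helper846)
-/

set_option autoImplicit false

namespace Cfsg.Agent.H846.Elim

open Subgroup Matrix Val

theorem v_prod {ι : Type*} (s : Finset ι) (f : ι → ℕ) (h : ∀ i ∈ s, f i ≠ 0) : v (∏ i ∈ s, f i) = ∑ i ∈ s, v (f i) := by
  classical
  induction s using Finset.induction_on with
  | empty => simp [v_one]
  | insert i s hi ih =>
    rw [Finset.prod_insert hi, Finset.sum_insert hi, v_mul (h i (Finset.mem_insert_self i s))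
      (Finset.prod_ne_zero_iff.2 fun j hj => h j (Finset.mem_insert_of_mem hj)),
      ih fun j hj => h j (Finset.mem_insert_of_mem hj)]

namespace PSL

theorem psl_v {q : ℕ} (hq : 2 ≤ q) (n : ℕ) :
    v (∏ i : Fin n, (q ^ n - q ^ (i : ℕ))) = ∑ i ∈ Finset.range n, (i * v q + v (q ^ (n - i) - 1)) := by
  have h1 : ∀ i : Fin n, q ^ n - q ^ (i : ℕ) = q ^ (i : ℕ) * (q ^ (n - i) - 1) := by
    intro i
    rw [Nat.mul_sub, mul_one, ← pow_add, Nat.add_sub_cancel' i.2.le]
  have h2 : ∀ i : Fin n, q ^ (n - (i : ℕ)) - 1 ≠ 0 := fun i => sub_ne hq (by omega)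
  have h3 : ∀ i : ℕ, q ^ i ≠ 0 := fun i => pow_ne_zero _ (by omega)
  rw [v_prod _ _ (fun i _ => by rw [h1]; exact mul_ne_zero (h3 _) (h2 i)), Finset.sum_range]
  refine Finset.sum_congr rfl fun i _ => ?_
  rw [h1, v_mul (h3 _) (h2 i), v_pow]

/-- the 3-adic valuation of the order -/
theorem v_eq {K : Type*} [Group K] (hK : Cond K) {F : Type*} [Field F] [Fintype F] {n : ℕ} (hn : 2 ≤ n)
    (e : K ≃* ProjectiveSpecialLinearGroup (Fin n) F) :
    v (Nat.gcd n (Fintype.card F - 1)) + (v (Fintype.card F - 1) + 6) =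
      ∑ i ∈ Finset.range n, (i * v (Fintype.card F) + v (Fintype.card F ^ (n - i) - 1)) := by
  have hq : 2 ≤ Fintype.card F := Fintype.one_lt_card
  have h1 := S0243.result (F := F) rfl n hn
  have h2 := (hK.congr e).v_card
  have h3 := (hK.congr e).fin
  have h4 : Nat.card (ProjectiveSpecialLinearGroup (Fin n) F) ≠ 0 := Nat.card_pos.ne'
  rw [← psl_v hq, ← h1, v_mul (by
    intro h
    have := Nat.eq_zero_of_gcd_eq_zero_left h
    omega) (mul_ne_zero (by omega) h4), v_mul (by omega) h4, h2]

/-- characteristic prime to 3, `n ≤ 9`: `n ≤ 5` and `27 ∣ q² - 1` or `n = 6`, `q ≡ 1` -/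
theorem small {K : Type*} [Group K] (hK : Cond K) {F : Type*} [Field F] [Fintype F] {n : ℕ} (hn : 2 ≤ n) (hn9 : n ≤ 9)
    (h3 : Fintype.card F % 3 ≠ 0) (e : K ≃* ProjectiveSpecialLinearGroup (Fin n) F) :
    3 ≤ v (Fintype.card F ^ 2 - 1) ∨ (n = 6 ∧ Fintype.card F % 3 = 1) := by
  have hq : 2 ≤ Fintype.card F := Fintype.one_lt_card
  have h := v_eq hK hn e
  have ha := a_pos h3 hq
  set q := Fintype.card F with hqq
  have hv : v q = 0 := v_of_not h3
  rw [hv] at h
  simp only [mul_zero, zero_add] at h
  have hcase : q % 3 = 1 ∨ q % 3 = 2 := by omega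
  rcases hcase with h1 | h1
  · -- `q ≡ 1`
    have e1 : v (q ^ 1 - 1) = v (q ^ 2 - 1) := by rw [v_any h1 hq (by norm_num), v_one, add_zero]
    have e3 : v (q ^ 3 - 1) = v (q ^ 2 - 1) + 1 := by rw [v_any h1 hq (by norm_num), v_three]
    have e4 : v (q ^ 4 - 1) = v (q ^ 2 - 1) := by rw [v_any h1 hq (by norm_num), v_four, add_zero]
    have e5 : v (q ^ 5 - 1) = v (q ^ 2 - 1) := by rw [v_any h1 hq (by norm_num), v_five, add_zero]
    have e6 : v (q ^ 6 - 1) = v (q ^ 2 - 1) + 1 := by rw [v_any h1 hq (by norm_num), v_six]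
    have e7 : v (q ^ 7 - 1) = v (q ^ 2 - 1) := by rw [v_any h1 hq (by norm_num), v_seven, add_zero]
    have e8 : v (q ^ 8 - 1) = v (q ^ 2 - 1) := by rw [v_any h1 hq (by norm_num), v_eight, add_zero]
    have e9 : v (q ^ 9 - 1) = v (q ^ 2 - 1) + 2 := by rw [v_any h1 hq (by norm_num), v_nine]
    have hgv : v (Nat.gcd n (q - 1)) ≤ v n := by
      have : Nat.gcd n (q - 1) ∣ n := Nat.gcd_dvd_left _ _
      obtain ⟨c, hc⟩ := this
      have hc0 : c ≠ 0 := by rintro rfl; omega
      have hg0 : Nat.gcd n (q - 1) ≠ 0 := by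
        intro h0
        rw [h0, zero_mul] at hc
        omega
      conv_rhs => rw [hc]
      rw [v_mul hg0 hc0]
      omega
    have hg3 : n = 3 → v (Nat.gcd n (q - 1)) = 1 := by
      rintro rfl
      have h2 : Nat.gcd 3 (q - 1) = 3 := Nat.gcd_eq_left (by omega)
      rw [h2, v_three]
    rw [v_sub_one h1 hq] at h
    interval_cases n
    · simp only [Finset.sum_range_succ, Finset.sum_range_zero] at h
      norm_num only [v_two] at hgv h
      rw [e1] at h
      omega
    · simp only [Finset.sum_range_succ, Finset.sum_range_zero] at h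
      norm_num only at hg3 h
      rw [e1, e3] at h
      have := hg3 trivial
      omega
    · simp only [Finset.sum_range_succ, Finset.sum_range_zero] at h
      norm_num only [v_four] at hgv h
      rw [e1, e3, e4] at h
      omega
    · simp only [Finset.sum_range_succ, Finset.sum_range_zero] at h
      norm_num only [v_five] at hgv h
      rw [e1, e3, e4, e5] at h
      omega
    · right; exact ⟨rfl, h1⟩
    · simp only [Finset.sum_range_succ, Finset.sum_range_zero] at h
      norm_num only [v_seven] at hgv h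
      rw [e1, e3, e4, e5, e6, e7] at h
      omega
    · simp only [Finset.sum_range_succ, Finset.sum_range_zero] at h
      norm_num only [v_eight] at hgv h
      rw [e1, e3, e4, e5, e6, e7, e8] at h
      omega
    · simp only [Finset.sum_range_succ, Finset.sum_range_zero] at h
      norm_num only [v_nine] at hgv h
      rw [e1, e3, e4, e5, e6, e7, e8, e9] at h
      omega
  · -- `q ≡ 2`
    left
    have e1 : v (q ^ 1 - 1) = 0 := v_odd h1 hq rfl
    have e3 : v (q ^ 3 - 1) = 0 := v_odd h1 hq rfl
    have e5 : v (q ^ 5 - 1) = 0 := v_odd h1 hq rfl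
    have e7 : v (q ^ 7 - 1) = 0 := v_odd h1 hq rfl
    have e9 : v (q ^ 9 - 1) = 0 := v_odd h1 hq rfl
    have e4 : v (q ^ 4 - 1) = v (q ^ 2 - 1) := by rw [v_even (k := 2) h3 hq (by norm_num), v_two, add_zero]
    have e6 : v (q ^ 6 - 1) = v (q ^ 2 - 1) + 1 := by rw [v_even (k := 3) h3 hq (by norm_num), v_three]
    have e8 : v (q ^ 8 - 1) = v (q ^ 2 - 1) := by rw [v_even (k := 4) h3 hq (by norm_num), v_four, add_zero]
    have hg0 : v (q - 1) = 0 := v_of_not (by omega)
    have hgv : v (Nat.gcd n (q - 1)) = 0 := by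
      have : Nat.gcd n (q - 1) ∣ q - 1 := Nat.gcd_dvd_right _ _
      apply padicValNat.eq_zero_of_not_dvd
      intro h2
      have h4 := h2.trans this
      omega
    rw [hg0, hgv] at h
    interval_cases n
    · simp only [Finset.sum_range_succ, Finset.sum_range_zero] at h
      norm_num only at h
      rw [e1] at h
      omega
    · simp only [Finset.sum_range_succ, Finset.sum_range_zero] at h
      norm_num only at h
      rw [e1, e3] at h
      omega
    · simp only [Finset.sum_range_succ, Finset.sum_range_zero] at h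
      norm_num only at h
      rw [e1, e3, e4] at h
      omega
    · simp only [Finset.sum_range_succ, Finset.sum_range_zero] at h
      norm_num only at h
      rw [e1, e3, e4, e5] at h
      omega
    · simp only [Finset.sum_range_succ, Finset.sum_range_zero] at h
      norm_num only at h
      rw [e1, e3, e4, e5, e6] at h
      omega
    · simp only [Finset.sum_range_succ, Finset.sum_range_zero] at h
      norm_num only at h
      rw [e1, e3, e4, e5, e6, e7] at h
      omega
    · simp only [Finset.sum_range_succ, Finset.sum_range_zero] at h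
      norm_num only at h
      rw [e1, e3, e4, e5, e6, e7, e8] at h
      omega
    · simp only [Finset.sum_range_succ, Finset.sum_range_zero] at h
      norm_num only at h
      rw [e1, e3, e4, e5, e6, e7, e8, e9] at h
      omega

end PSL

end Cfsg.Agent.H846.Elim
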