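import Cfsg.Agent.H846.Elim.PSLc
import Cfsg.Agent.S0242

/-!
# `Cond` fails for `PSL_n(q)`, `q` prime to 3 (helper846)
-/

set_option autoImplicit false

namespace Cfsg.Agent.H846.Elim

open Subgroup Matrix Val

theorem exists_w {F : Type*} [Field F] [Fintype F] (h : Fintype.card F % 3 = 1) : ∃ w : F, w ^ 2 + w + 1 = 0 := by
  classical
  have := Fact.mk Nat.prime_three
  have h1 : 3 ∣ Nat.card Fˣ := by
    rw [Nat.card_units, Nat.card_eq_fintype_card]
    have := Fintype.one_lt_card (α := F)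
    omega
  obtain ⟨u, hu⟩ := exists_prime_orderOf_dvd_card' 3 h1
  refine ⟨u, ?_⟩
  have h3 : (u : F) ^ 3 = 1 := by
    have : u ^ 3 = 1 := by rw [← hu]; exact pow_orderOf_eq_one u
    rw [← Units.val_pow_eq_pow_val, this, Units.val_one]
  have h4 : (u : F) ≠ 1 := by
    intro h
    have : u = 1 := Units.ext h
    rw [this, orderOf_one] at hu
    omega
  have h5 : ((u : F) - 1) * ((u : F) ^ 2 + u + 1) = 0 := by linear_combination h3
  exact (mul_eq_zero.1 h5).resolve_left (sub_ne_zero.2 h4)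

theorem card_SL2 (F : Type*) [Field F] [Fintype F] :
    Nat.card (SL2 F) = (Fintype.card F ^ 2 - 1) * Fintype.card F := by
  have hq : 2 ≤ Fintype.card F := Fintype.one_lt_card
  have h := S0242.result (F := F) rfl 2 (by norm_num)
  rw [Fin.prod_univ_two] at h
  simp only [Fin.val_zero, Fin.val_one, pow_zero, pow_one] at h
  have h1 : Fintype.card F ^ 2 - Fintype.card F = (Fintype.card F - 1) * Fintype.card F := by
    rw [Nat.sub_mul, one_mul, pow_two]
  rw [h1] at h
  have h2 : 0 < Fintype.card F - 1 := by omega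
  refine Nat.eq_of_mul_eq_mul_left h2 ?_
  rw [h]
  ring

/-- no `SL_2(q)` with `27 ∣ q² - 1` -/
theorem no27_SL2 {F : Type*} [Field F] [Fintype F] {K : Type*} [Group K] (hK : Cond K)
    (h3 : Fintype.card F % 3 ≠ 0) (ha : 3 ≤ v (Fintype.card F ^ 2 - 1)) (f : SL2 F →* K)
    (hf : ∀ c, f c = 1 → c = 1 ∨ c = -1) : False := by
  have hq : 2 ≤ Fintype.card F := Fintype.one_lt_card
  have h27 : 27 ∣ Nat.card (SL2 F) := by
    rw [card_SL2]
    apply Dvd.dvd.mul_right
    have := (dvd_iff (sub_ne hq (k := 2) (by norm_num))).2 ha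
    simpa using this
  obtain ⟨x, hx⟩ := exists_27 h3 (MonoidHom.id (SL2 F)) Function.injective_id h27
  refine hK.no27_hom f hx ?_
  intro n hn hn0 h
  have h1 : x ^ n * x ^ n = 1 := by
    rcases hf _ h with h2 | h2
    · rw [h2, one_mul]
    · rw [h2, neg_mul_neg, one_mul]
  rw [← pow_add] at h1
  have h2 := orderOf_dvd_of_pow_eq_one h1
  rw [hx] at h2
  omega

namespace PSL

variable {F : Type*} [Field F]

theorem ff_one_ker {n : ℕ} {e : (Fin 2 × Fin 1) ⊕ Fin (n - 2) ≃ Fin n} {c : SL2 F}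
    (h : ff 1 n (Fin (n - 2)) e F (Pi.mulSingle 0 c) = 1) : c = 1 ∨ c = -1 := by
  obtain ⟨r, h1, -⟩ := ff_ker h
  have h2 := h1 0
  rw [Pi.mulSingle_eq_same] at h2
  have h3 := c.det_coe
  rw [h2] at h3
  simp [scalar_apply, det_diagonal] at h3
  rcases h3 with h3 | h3
  · left
    apply Subtype.ext
    change (c : Matrix (Fin 2) (Fin 2) F) = 1
    rw [h2, h3, map_one]
  · right
    apply Subtype.ext
    change (c : Matrix (Fin 2) (Fin 2) F) = -1
    rw [h2, h3, map_neg, map_one]

theorem not_three {K : Type*} [Group K] (hK : Cond K) {F : Type*} [Field F] [Fintype F] {n : ℕ} (hn : 2 ≤ n)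
    (h3 : Fintype.card F % 3 ≠ 0) (e : K ≃* ProjectiveSpecialLinearGroup (Fin n) F) : False := by
  rcases Nat.lt_or_ge n 10 with hn10 | hn10
  · rcases small hK hn (by omega) h3 e with h | ⟨rfl, h⟩
    · have e' : (Fin 2 × Fin 1) ⊕ Fin (n - 2) ≃ Fin n := Fintype.equivFinOfCardEq (by simp; omega)
      refine no27_SL2 (F := F) (hK.congr e) h3 h
        ((ff 1 n (Fin (n - 2)) e' F).comp (MonoidHom.mulSingle (fun _ : Fin 1 => SL2 F) 0)) ?_
      intro c hc
      exact ff_one_ker hc
    · obtain ⟨w, hw⟩ := exists_w h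
      refine six_one hK ?_ (three_ne (h3 := inferInstance) h3) hw e
      rw [Nat.card_eq_fintype_card]
      omega
  · exact big hK hn10 e

end PSL

end Cfsg.Agent.H846.Elim
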