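import Cfsg.Agent.H846.Elim.Basic

/-!
# Fixed vectors of 3-groups in characteristic 3, and what `Cond` gives for central elements (helper846)
-/

set_option autoImplicit false

namespace Cfsg.Agent.H846.Elim

open Subgroup Matrix

theorem dvd_card_sub {F : Type*} [Field F] [Fintype F] {p : ℕ} [Fact p.Prime] [CharP F p] {n : ℕ}
    (W : Submodule F (Fin n → F)) (hW0 : W ≠ ⊥) : p ∣ Nat.card W := by
  obtain ⟨w, hw, hw0⟩ := (Submodule.ne_bot_iff W).1 hW0
  have h1 : addOrderOf (⟨w, hw⟩ : W) = p := by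
    apply addOrderOf_eq_prime
    · apply Subtype.ext
      change p • w = 0
      rw [← Nat.cast_smul_eq_nsmul F, CharP.cast_eq_zero, zero_smul]
    · intro h
      exact hw0 (congrArg Subtype.val h)
  rw [← h1]
  exact addOrderOf_dvd_natCard _

theorem exists_fix {F : Type*} [Field F] [Fintype F] {p : ℕ} [Fact p.Prime] [CharP F p] {n : ℕ} {T : Type*}
    [Group T] (hT : IsPGroup p T) (ρ : T →* Matrix (Fin n) (Fin n) F) (W : Submodule F (Fin n → F))
    (hW : ∀ t, ∀ w ∈ W, ρ t *ᵥ w ∈ W) (hW0 : W ≠ ⊥) : ∃ w ∈ W, w ≠ 0 ∧ ∀ t, ρ t *ᵥ w = w := by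
  let _ : MulAction T W :=
    { smul := fun t w => ⟨ρ t *ᵥ w, hW t w w.2⟩
      one_smul := fun w => Subtype.ext (by
        change ρ 1 *ᵥ (w : Fin n → F) = w
        rw [map_one, one_mulVec])
      mul_smul := fun s t w => Subtype.ext (by
        change ρ (s * t) *ᵥ (w : Fin n → F) = ρ s *ᵥ (ρ t *ᵥ w)
        rw [map_mul, mulVec_mulVec]) }
  have hsm : ∀ (t : T) (w : W), ((t • w : W) : Fin n → F) = ρ t *ᵥ w := fun t w => rfl
  obtain ⟨b, hb, hb0⟩ := hT.exists_fixed_point_of_prime_dvd_card_of_fixed_point W (dvd_card_sub W hW0) (a := 0)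
    (by
      intro t
      apply Subtype.ext
      rw [hsm]
      change ρ t *ᵥ (0 : Fin n → F) = 0
      rw [mulVec_zero])
  refine ⟨b, b.2, fun h => hb0 (Subtype.ext h.symm), fun t => ?_⟩
  rw [← hsm, hb t]

/-- Sylow 3-subgroups of a cover -/
theorem exists_T {K Γ : Type*} [Group K] [Group Γ] [Finite Γ] (hK : Cond K) (f : Γ →* K)
    (hf : Function.Surjective f) (hker : ∀ c, f c = 1 → ∀ k, c ^ 3 ^ k = 1 → c = 1) :
    ∃ T : Subgroup Γ, Nat.card T = 3 ^ 6 ∧ Nat.card (T.map f) = 3 ^ 6 := by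
  have h3F := Fact.mk Nat.prime_three
  have h1 : Nat.card K ∣ Nat.card Γ := Subgroup.card_dvd_of_surjective f hf
  obtain ⟨T, hT⟩ := Sylow.exists_subgroup_card_pow_prime 3 (hK.card6.trans h1)
  refine ⟨T, hT, ?_⟩
  have hinj : Function.Injective (f.comp T.subtype) := by
    rw [injective_iff_map_eq_one]
    intro a ha
    apply Subtype.ext
    refine hker a ha 6 ?_
    have h2 : a ^ Nat.card T = 1 := pow_card_eq_one'
    rw [hT] at h2
    have := congrArg Subtype.val h2
    simpa using this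
  have h3 : (f.comp T.subtype).range = T.map f := by
    ext y
    constructor
    · rintro ⟨a, rfl⟩
      exact ⟨a, a.2, rfl⟩
    · rintro ⟨a, ha, rfl⟩
      exact ⟨⟨a, ha⟩, rfl⟩
  rw [← h3, ← Nat.card_congr (MonoidHom.ofInjective hinj).toEquiv, hT]

/-- a 3-element commuting with a Sylow 3-subgroup lies in it -/
theorem mem_of_comm {K : Type*} [Group K] (hK : Cond K) {T : Subgroup K} (hT : Nat.card T = 3 ^ 6) {x : K}
    (hx : x ^ 3 = 1) (hc : ∀ t ∈ T, t * x = x * t) : x ∈ T := by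
  have h3F := Fact.mk Nat.prime_three
  have hfin := hK.fin
  have hTp : IsPGroup 3 T := IsPGroup.of_card hT
  have hxp : IsPGroup 3 (zpowers x) := by
    have h1 : orderOf x ∣ 3 ^ 1 := orderOf_dvd_of_pow_eq_one (by rw [pow_one]; exact hx)
    obtain ⟨k, hk, hk'⟩ := (Nat.dvd_prime_pow Nat.prime_three).1 h1
    exact IsPGroup.of_card (n := k) (by rw [Nat.card_zpowers, hk'])
  have hle : zpowers x ≤ normalizer T := by
    rw [zpowers_le, mem_normalizer_iff]
    intro t
    constructor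
    · intro ht
      rw [← hc t ht, mul_inv_cancel_right]
      exact ht
    · intro ht
      have h2 := hc _ ht
      have h3 : x * t = x * (x * t * x⁻¹) := by
        rw [← h2]; group
      have h4 := mul_left_cancel h3
      rw [h4]; exact ht
  have hsup : IsPGroup 3 (T ⊔ zpowers x : Subgroup K) := hTp.to_sup_of_normal_left' hxp hle
  obtain ⟨k, hk⟩ := (IsPGroup.iff_card (p := 3)).1 hsup
  have h5 : Nat.card (T ⊔ zpowers x : Subgroup K) ∣ Nat.card K := card_subgroup_dvd_card _
  have h6 : k ≤ 6 := by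
    by_contra hcon
    apply hK.card7
    rw [hk] at h5
    exact (pow_dvd_pow 3 (by omega : 7 ≤ k)).trans h5
  have h7 : T = T ⊔ zpowers x := by
    apply Subgroup.eq_of_le_of_card_ge le_sup_left
    rw [hk, hT]
    exact Nat.pow_le_pow_right (by norm_num) h6
  rw [h7]
  exact (le_sup_right : zpowers x ≤ _) (mem_zpowers x)

/-- a vector space of central elements has order 3 -/
theorem card_root {K Γ A : Type*} [Group K] [Group Γ] [Finite Γ] (hK : Cond K) (f : Γ →* K)
    (hker : ∀ c, f c = 1 → ∀ k, c ^ 3 ^ k = 1 → c = 1) {T : Subgroup Γ}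
    (hT : Nat.card (T.map f) = 3 ^ 6) [CommGroup A] (g : A →* Γ) (hg : Function.Injective g)
    (hA : ∀ a : A, a ^ 3 = 1) (hc : ∀ t ∈ T, ∀ a, t * g a = g a * t) : Nat.card A ≤ 3 := by
  by_cases hA1 : ∀ a : A, a = 1
  · have : Subsingleton A := ⟨fun a b => by rw [hA1 a, hA1 b]⟩
    have : Nat.card A ≤ 1 := Finite.card_le_one_iff_subsingleton.2 inferInstance
    omega
  · push Not at hA1
    obtain ⟨x, hx⟩ := hA1
    have hinj : Function.Injective (f.comp g) := by
      rw [injective_iff_map_eq_one]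
      intro a ha
      apply hg
      rw [map_one]
      refine hker _ ha 1 ?_
      rw [pow_one, ← map_pow, hA, map_one]
    have h1 : ∀ a, ∀ t ∈ T.map f, t * (f.comp g) a = (f.comp g) a * t := by
      rintro a _ ⟨t, ht, rfl⟩
      change f t * f (g a) = f (g a) * f t
      rw [← map_mul, hc t ht, map_mul]
    have h2 : ∀ a, (f.comp g) a ∈ T.map f := fun a =>
      mem_of_comm hK hT (by rw [← map_pow, hA, map_one]) (h1 a)
    have h3 : ∀ a, (f.comp g) a ∈ zpowers ((f.comp g) x) := by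
      intro a
      refine hK.center _ hT _ (h2 x) _ (h2 a) (h1 x) (h1 a) ?_
      intro h
      apply hx
      apply hinj
      rw [h, map_one]
    have h4 : (⊤ : Subgroup A) ≤ zpowers x := by
      intro a _
      obtain ⟨k, hk⟩ := mem_zpowers_iff.1 (h3 a)
      refine mem_zpowers_iff.2 ⟨k, hinj ?_⟩
      rw [map_zpow]
      exact hk
    have h5 : Nat.card A = orderOf x := by
      rw [← Nat.card_zpowers, top_le_iff.1 h4, Subgroup.card_top]
    rw [h5]
    exact Nat.le_of_dvd (by norm_num) (orderOf_dvd_of_pow_eq_one (hA x))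

/-- an element of order 5 commuting with a central 3-element -/
theorem exists_five {K Γ : Type*} [Group K] [Group Γ] [Finite Γ] (hK : Cond K) (f : Γ →* K)
    (hf : Function.Surjective f) (hker : ∀ c, f c = 1 → ∀ k, c ^ 3 ^ k = 1 → c = 1)
    (hker4 : ∀ c, f c = 1 → c ^ 4 = 1 ∧ ∀ y, c * y = y * c) {T : Subgroup Γ}
    (hT : Nat.card (T.map f) = 3 ^ 6) {z : Γ} (hz : z ^ 3 = 1) (hz1 : z ≠ 1) (hc : ∀ t ∈ T, t * z = z * t) :
    ∃ h : Γ, h ^ 5 = 1 ∧ h ≠ 1 ∧ h * z = z * h := by
  have h5F := Fact.mk Nat.prime_five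
  have hfin := hK.fin
  have h1 : 3 ^ 6 ∣ Nat.card (centralizer ({f z} : Set K)) := by
    rw [← hT]
    apply card_dvd_of_le
    rintro _ ⟨t, ht, rfl⟩
    rw [mem_centralizer_singleton_iff, ← map_mul, ← map_mul, hc t ht]
  have h2 := hK.cz5 (f z) (fun h => hz1 (hker z h 1 (by rw [pow_one, hz]))) (by rw [← map_pow, hz, map_one]) h1
  obtain ⟨h, hh⟩ := exists_prime_orderOf_dvd_card' 5 h2
  obtain ⟨h', hh'⟩ := hf h
  have h3 : (h : K) ^ 5 = 1 := by
    have := pow_orderOf_eq_one h
    rw [hh] at this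
    exact_mod_cast congrArg Subtype.val this
  have h4 : (h : K) ≠ 1 := by
    intro h0
    have : h = 1 := Subtype.ext h0
    rw [this, orderOf_one] at hh
    omega
  have h5 : (h : K) * f z = f z * h := mem_centralizer_singleton_iff.1 h.2
  -- `h'` commutes with `z`
  have h6 : h' * z = z * h' := by
    have h7 : f (h' * z * h'⁻¹ * z⁻¹) = 1 := by
      rw [map_mul, map_mul, map_mul, map_inv, map_inv, hh', h5]
      group
    obtain ⟨-, h8⟩ := hker4 _ h7
    have h9 : h' * z * h'⁻¹ = (h' * z * h'⁻¹ * z⁻¹) * z := by group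
    have h10 : (h' * z * h'⁻¹ * z⁻¹) ^ 3 = 1 := by
      have h11 : (h' * z * h'⁻¹) ^ 3 = 1 := by
        rw [conj_pow, hz, mul_one, mul_inv_cancel]
      rw [h9, (show Commute _ _ from h8 z).mul_pow, hz, mul_one] at h11
      exact h11
    have h11 := hker _ h7 1 (by rw [pow_one]; exact h10)
    rw [h11, one_mul] at h9
    exact mul_inv_eq_iff_eq_mul.1 h9
  have h7 : f (h' ^ 5) = 1 := by rw [map_pow, hh', h3]
  refine ⟨h' ^ 4, ?_, ?_, ?_⟩
  · rw [← pow_mul, mul_comm, pow_mul]
    exact (hker4 _ h7).1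
  · intro h0
    have h8 : (h : K) ^ 4 = 1 := by rw [← hh', ← map_pow, h0, map_one]
    apply h4
    rw [pow_succ, h8, one_mul] at h3
    exact h3
  · exact ((show Commute h' z from h6).pow_left 4).eq

end Cfsg.Agent.H846.Elim
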