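import Cfsg.Agent.H846.Elim.PSLd
import Cfsg.Agent.H846.Elim.Tv

/-!
# `Cond` fails for `PSL_n(3^f)` (helper846)
-/

set_option autoImplicit false

namespace Cfsg.Agent.H846.Elim

open Subgroup Matrix Val

variable {F : Type*} [Field F]

/-- root groups -/
def tvm {n : ℕ} (e φ : Fin n → F) (h : φ ⬝ᵥ e = 0) : Multiplicative F →* Matrix.SpecialLinearGroup (Fin n) F where
  toFun t := ⟨1 + vecMulVec (t.toAdd • e) φ, by
    rw [vecMulVec_eq (ι := Unit), det_one_add_replicateCol_mul_replicateRow, dotProduct_smul, h, smul_zero, add_zero]⟩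
  map_one' := Subtype.ext (by simp)
  map_mul' s t := Subtype.ext (by
    change 1 + vecMulVec ((s.toAdd + t.toAdd) • e) φ =
      (1 + vecMulVec (s.toAdd • e) φ) * (1 + vecMulVec (t.toAdd • e) φ)
    rw [mul_add, add_mul, add_mul, vecMulVec_mul_vecMulVec, dotProduct_smul, h, smul_zero, add_smul,
      add_vecMulVec]
    simp [add_assoc, add_comm])

theorem tvm_val {n : ℕ} {e φ : Fin n → F} (h : φ ⬝ᵥ e = 0) (t : Multiplicative F) :
    ((tvm e φ h t : Matrix.SpecialLinearGroup (Fin n) F) : Matrix (Fin n) (Fin n) F) =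
      1 + vecMulVec (t.toAdd • e) φ := rfl

theorem tvm_injective {n : ℕ} {e φ : Fin n → F} (h : φ ⬝ᵥ e = 0) (he : e ≠ 0) (hφ : φ ≠ 0) :
    Function.Injective (tvm e φ h) := by
  rw [injective_iff_map_eq_one]
  intro t ht
  obtain ⟨i, hi⟩ := Function.ne_iff.1 he
  obtain ⟨j, hj⟩ := Function.ne_iff.1 hφ
  have h1 := congrArg (fun g : Matrix.SpecialLinearGroup (Fin n) F => (g : Matrix (Fin n) (Fin n) F)) ht
  simp only [tvm_val] at h1
  rw [Matrix.SpecialLinearGroup.coe_one, add_eq_left] at h1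
  have h2 := congrFun (congrFun h1 i) j
  rw [vecMulVec_apply] at h2
  simp only [Pi.smul_apply, smul_eq_mul, Matrix.zero_apply, mul_eq_zero] at h2
  rcases h2 with (h2 | h2) | h2
  · exact h2
  · exact absurd h2 hi
  · exact absurd h2 hj

theorem comm_tvm {n : ℕ} {e φ : Fin n → F} (h : φ ⬝ᵥ e = 0) {g : Matrix.SpecialLinearGroup (Fin n) F}
    (h1 : (g : Matrix (Fin n) (Fin n) F) *ᵥ e = e) (h2 : φ ᵥ* (g : Matrix (Fin n) (Fin n) F) = φ)
    (t : Multiplicative F) : g * tvm e φ h t = tvm e φ h t * g := by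
  apply Subtype.ext
  rw [Matrix.SpecialLinearGroup.coe_mul, Matrix.SpecialLinearGroup.coe_mul, tvm_val, mul_add, add_mul, mul_one,
    one_mul, mul_vecMulVec, vecMulVec_mul, mulVec_smul, h1, h2]

/-- the transpose inverse -/
def dualHom (n : ℕ) (F : Type*) [Field F] : Matrix.SpecialLinearGroup (Fin n) F →* Matrix (Fin n) (Fin n) F where
  toFun g := ((g⁻¹ : Matrix.SpecialLinearGroup (Fin n) F) : Matrix (Fin n) (Fin n) F)ᵀ
  map_one' := by simp
  map_mul' a b := by rw [_root_.mul_inv_rev, Matrix.SpecialLinearGroup.coe_mul, transpose_mul]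

/-- the vectors orthogonal to `e` -/
def perp {n : ℕ} (e : Fin n → F) : Submodule F (Fin n → F) where
  carrier := {φ | φ ⬝ᵥ e = 0}
  zero_mem' := zero_dotProduct e
  add_mem' {a b} ha hb := by
    change (a + b) ⬝ᵥ e = 0
    rw [add_dotProduct, ha, hb, add_zero]
  smul_mem' c a ha := by
    change (c • a) ⬝ᵥ e = 0
    rw [smul_dotProduct, ha, smul_zero]

theorem mem_perp {n : ℕ} {e φ : Fin n → F} : φ ∈ perp e ↔ φ ⬝ᵥ e = 0 := Iff.rfl

theorem perp_ne_bot {n : ℕ} (hn : 2 ≤ n) {e : Fin n → F} (he : e ≠ 0) : perp e ≠ ⊥ := by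
  obtain ⟨i, hi⟩ := Function.ne_iff.1 he
  have hne : ∃ j : Fin n, j ≠ i := by
    by_cases h : i = ⟨0, by omega⟩
    · refine ⟨⟨1, by omega⟩, ?_⟩
      rw [h]
      simp
    · exact ⟨_, Ne.symm h⟩
  obtain ⟨j, hj⟩ := hne
  rw [Submodule.ne_bot_iff]
  refine ⟨Pi.single j (e i) - Pi.single i (e j), ?_, ?_⟩
  · rw [mem_perp, sub_dotProduct, single_dotProduct, single_dotProduct]
    ring
  · intro h
    have h1 := congrFun h j
    simp only [Pi.sub_apply, Pi.single_eq_same, Pi.single_eq_of_ne hj, Pi.zero_apply, sub_zero] at h1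
    exact hi h1

/-- the matrices of a subgroup -/
def valHom {n : ℕ} (T : Subgroup (Matrix.SpecialLinearGroup (Fin n) F)) : T →* Matrix (Fin n) (Fin n) F where
  toFun t := ((t : Matrix.SpecialLinearGroup (Fin n) F) : Matrix (Fin n) (Fin n) F)
  map_one' := rfl
  map_mul' _ _ := rfl

/-- a 3-subgroup of `SL_n` centralises a transvection -/
theorem exists_tv [Fintype F] {p : ℕ} [Fact p.Prime] [CharP F p] {n : ℕ} (hn : 2 ≤ n)
    (T : Subgroup (Matrix.SpecialLinearGroup (Fin n) F)) (hT : IsPGroup p T) :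
    ∃ (e φ : Fin n → F) (h : φ ⬝ᵥ e = 0), e ≠ 0 ∧ φ ≠ 0 ∧
      ∀ t ∈ T, ∀ s, t * tvm e φ h s = tvm e φ h s * t := by
  obtain ⟨e, -, he, h1⟩ := exists_fix hT (valHom T) ⊤ (fun _ _ _ => trivial) (by
      intro h
      have hn0 : Nonempty (Fin n) := ⟨⟨0, by omega⟩⟩
      have : Nontrivial (Fin n → F) := inferInstance
      exact top_ne_bot h)
  have h1' : ∀ t ∈ T, (t : Matrix (Fin n) (Fin n) F) *ᵥ e = e := fun t ht => h1 ⟨t, ht⟩
  obtain ⟨φ, hφe, hφ, h2⟩ := exists_fix hT ((dualHom n F).comp T.subtype) (perp e) (by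
      rintro t w hw
      change (((t : Matrix.SpecialLinearGroup (Fin n) F)⁻¹ : Matrix.SpecialLinearGroup (Fin n) F) :
        Matrix (Fin n) (Fin n) F)ᵀ *ᵥ w ∈ perp e
      rw [mem_perp, mulVec_transpose, ← dotProduct_mulVec, h1' _ (inv_mem t.2)]
      exact hw) (perp_ne_bot hn he)
  refine ⟨e, φ, hφe, he, hφ, ?_⟩
  intro t ht s
  apply comm_tvm _ (h1' t ht)
  have h3 : (((t⁻¹)⁻¹ : Matrix.SpecialLinearGroup (Fin n) F) : Matrix (Fin n) (Fin n) F)ᵀ *ᵥ φ = φ :=
    h2 ⟨t⁻¹, inv_mem ht⟩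
  rw [inv_inv, mulVec_transpose] at h3
  exact h3

theorem eq_one_of_pow_char {F : Type*} [Field F] [CharP F 3] {r : F} {k : ℕ} (h : r ^ 3 ^ k = 1) : r = 1 := by
  have h3F := Fact.mk Nat.prime_three
  have h1 : (r - 1) ^ 3 ^ k = 0 := by rw [sub_pow_char_pow, h, one_pow, sub_self]
  exact sub_eq_zero.1 (pow_eq_zero_iff (pow_ne_zero k (by norm_num)) |>.1 h1)

theorem sl_ker {F : Type*} [Field F] [CharP F 3] {n : ℕ} (hn : 2 ≤ n) (c : Matrix.SpecialLinearGroup (Fin n) F)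
    (hc : (QuotientGroup.mk' (center (Matrix.SpecialLinearGroup (Fin n) F))) c = 1) (k : ℕ) (h : c ^ 3 ^ k = 1) :
    c = 1 := by
  have h1 := (QuotientGroup.eq_one_iff _).1 hc
  rw [Matrix.SpecialLinearGroup.mem_center_iff] at h1
  obtain ⟨r, -, hr⟩ := h1
  have h2 : scalar (Fin n) (r ^ 3 ^ k) = (1 : Matrix (Fin n) (Fin n) F) := by
    rw [map_pow, hr]
    have := congrArg (fun g : Matrix.SpecialLinearGroup (Fin n) F => (g : Matrix (Fin n) (Fin n) F)) h
    simpa using this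
  have h3 : r ^ 3 ^ k = 1 := by
    have := congrFun (congrFun h2 ⟨0, by omega⟩) ⟨0, by omega⟩
    simpa [scalar_apply, diagonal_apply] using this
  apply Subtype.ext
  rw [← hr, eq_one_of_pow_char h3, map_one]
  rfl

end Cfsg.Agent.H846.Elim
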