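import Cfsg.Agent.H846.Elim.PSLe

/-!
# `Cond` fails for `PSL_n(q)` (helper846)
-/

set_option autoImplicit false

namespace Cfsg.Agent.H846.Elim

open Subgroup Matrix Val

theorem card_fix {F : Type*} [Field F] [Fintype F] {p : ℕ} [Fact p.Prime] {n : ℕ} {T : Type*}
    [Group T] (hT : IsPGroup p T) (ρ : T →* Matrix (Fin n) (Fin n) F) (W : Set (Fin n → F))
    (hW : ∀ t, ∀ w ∈ W, ρ t *ᵥ w ∈ W) :
    Nat.card W ≡ Nat.card {w : Fin n → F | w ∈ W ∧ ∀ t, ρ t *ᵥ w = w} [MOD p] := by
  let _ : MulAction T W :=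
    { smul := fun t w => ⟨ρ t *ᵥ w, hW t w w.2⟩
      one_smul := fun w => Subtype.ext (by
        change ρ 1 *ᵥ (w : Fin n → F) = w
        rw [map_one, one_mulVec])
      mul_smul := fun s t w => Subtype.ext (by
        change ρ (s * t) *ᵥ (w : Fin n → F) = ρ s *ᵥ (ρ t *ᵥ w)
        rw [map_mul, mulVec_mulVec]) }
  have hsm : ∀ (t : T) (w : W), ((t • w : W) : Fin n → F) = ρ t *ᵥ w := fun t w => rfl
  have h1 := hT.card_modEq_card_fixedPoints W
  have h2 : Nat.card (MulAction.fixedPoints T W) = Nat.card {w : Fin n → F | w ∈ W ∧ ∀ t, ρ t *ᵥ w = w} := by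
    refine Nat.card_congr
      { toFun := fun w => ⟨w.1, w.1.2, fun t => ?_⟩
        invFun := fun w => ⟨⟨w.1, w.2.1⟩, fun t => ?_⟩
        left_inv := fun w => rfl
        right_inv := fun w => rfl }
    · rw [← hsm, w.2 t]
    · exact Subtype.ext (w.2.2 t)
  rw [← h2]
  exact h1

/-- the fixed vectors -/
def fixs {F : Type*} [Field F] {n : ℕ} (g : Matrix (Fin n) (Fin n) F) : Submodule F (Fin n → F) where
  carrier := {w | g *ᵥ w = w}
  zero_mem' := mulVec_zero g
  add_mem' {a b} ha hb := by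
    change g *ᵥ (a + b) = a + b
    rw [mulVec_add, ha, hb]
  smul_mem' c a ha := by
    change g *ᵥ (c • a) = c • a
    rw [mulVec_smul, ha]

theorem mem_fixs {F : Type*} [Field F] {n : ℕ} {g : Matrix (Fin n) (Fin n) F} {w : Fin n → F} :
    w ∈ fixs g ↔ g *ᵥ w = w := Iff.rfl

/-- the stabiliser of a vector -/
def stv {F : Type*} [Field F] {n : ℕ} (w : Fin n → F) : Subgroup (Matrix.SpecialLinearGroup (Fin n) F) where
  carrier := {g | (g : Matrix (Fin n) (Fin n) F) *ᵥ w = w}
  one_mem' := one_mulVec w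
  mul_mem' {a b} ha hb := by
    change (a : Matrix (Fin n) (Fin n) F) *ᵥ w = w at ha
    change (b : Matrix (Fin n) (Fin n) F) *ᵥ w = w at hb
    change ((a * b : Matrix.SpecialLinearGroup (Fin n) F) : Matrix (Fin n) (Fin n) F) *ᵥ w = w
    rw [Matrix.SpecialLinearGroup.coe_mul, ← mulVec_mulVec, hb, ha]
  inv_mem' {a} ha := by
    change (a : Matrix (Fin n) (Fin n) F) *ᵥ w = w at ha
    change ((a⁻¹ : Matrix.SpecialLinearGroup (Fin n) F) : Matrix (Fin n) (Fin n) F) *ᵥ w = w
    conv_lhs => rw [← ha]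
    rw [mulVec_mulVec, ← Matrix.SpecialLinearGroup.coe_mul, inv_mul_cancel, Matrix.SpecialLinearGroup.coe_one,
      one_mulVec]

theorem mem_stv {F : Type*} [Field F] {n : ℕ} {w : Fin n → F} {g : Matrix.SpecialLinearGroup (Fin n) F} :
    g ∈ stv w ↔ (g : Matrix (Fin n) (Fin n) F) *ᵥ w = w := Iff.rfl

theorem fixs_zpow {F : Type*} [Field F] {n : ℕ} {h : Matrix.SpecialLinearGroup (Fin n) F} {w : Fin n → F} :
    (h : Matrix (Fin n) (Fin n) F) *ᵥ w = w ↔ ∀ t, valHom (zpowers h) t *ᵥ w = w := by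
  constructor
  · intro hw t
    exact (zpowers_le.2 (mem_stv.2 hw)) t.2
  · intro hw
    exact hw ⟨h, mem_zpowers h⟩

/-- counting fixed vectors of an element of order 5 -/
theorem card_fixs {F : Type*} [Field F] [Fintype F] {n : ℕ} {h : Matrix.SpecialLinearGroup (Fin n) F}
    (h5 : h ^ 5 = 1) (W : Set (Fin n → F)) (hW : ∀ w ∈ W, (h : Matrix (Fin n) (Fin n) F) *ᵥ w ∈ W) :
    Nat.card W ≡ Nat.card {w : Fin n → F | w ∈ W ∧ (h : Matrix (Fin n) (Fin n) F) *ᵥ w = w} [MOD 5] := by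
  have h5F := Fact.mk Nat.prime_five
  have hp : IsPGroup 5 (zpowers h) := by
    have h1 : orderOf h ∣ 5 ^ 1 := orderOf_dvd_of_pow_eq_one (by rw [pow_one]; exact h5)
    obtain ⟨k, hk, hk'⟩ := (Nat.dvd_prime_pow Nat.prime_five).1 h1
    exact IsPGroup.of_card (n := k) (by rw [Nat.card_zpowers, hk'])
  have hfin : Finite (Matrix.SpecialLinearGroup (Fin n) F) := inferInstance
  -- invariance under powers
  have hpow : ∀ k : ℕ, ∀ w ∈ W, ((h ^ k : Matrix.SpecialLinearGroup (Fin n) F) : Matrix (Fin n) (Fin n) F) *ᵥ w ∈ W := by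
    intro k
    induction k with
    | zero =>
      intro w hw
      rw [pow_zero, Matrix.SpecialLinearGroup.coe_one, one_mulVec]
      exact hw
    | succ k ih =>
      intro w hw
      rw [pow_succ, Matrix.SpecialLinearGroup.coe_mul, ← mulVec_mulVec]
      exact ih _ (hW w hw)
  have h1 := card_fix hp (valHom (zpowers h)) W (by
    rintro ⟨t, ht⟩ w hw
    obtain ⟨k, rfl⟩ := (mem_powers_iff_mem_zpowers.2 ht)
    exact hpow k w hw)
  simp only [← fixs_zpow] at h1
  exact h1

namespace PSL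

theorem charP_three {F : Type*} [Field F] [Fintype F] (h3 : Fintype.card F % 3 = 0) : CharP F 3 := by
  obtain ⟨p, hp⟩ := CharP.exists F
  have hpp : Fact p.Prime := ⟨CharP.char_is_prime F p⟩
  obtain ⟨n, hn, hc⟩ := FiniteField.card F p
  have h1 : 3 ∣ p ^ (n : ℕ) := by rw [← hc]; exact Nat.dvd_of_mod_eq_zero h3
  have h2 := (Nat.prime_dvd_prime_iff_eq Nat.prime_three hpp.out).1 (Nat.prime_three.dvd_of_dvd_pow h1)
  rw [h2]
  exact hp

/-- `L_4(3)` -/
theorem four_three {F : Type*} [Field F] [Fintype F] (hF : Fintype.card F = 3)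
    {e φ : Fin 4 → F} (hφe : φ ⬝ᵥ e = 0) (he : e ≠ 0) (hφ : φ ≠ 0) {h : Matrix.SpecialLinearGroup (Fin 4) F}
    (h5 : h ^ 5 = 1) (hz : h * tvm e φ hφe (Multiplicative.ofAdd 1) = tvm e φ hφe (Multiplicative.ofAdd 1) * h) :
    h = 1 := by
  classical
  -- `φ h = c φ`
  obtain ⟨i, hi⟩ := Function.ne_iff.1 he
  have h1 : vecMulVec ((h : Matrix (Fin 4) (Fin 4) F) *ᵥ e) φ = vecMulVec e (φ ᵥ* (h : Matrix (Fin 4) (Fin 4) F)) := by
    have h2 := congrArg (fun g : Matrix.SpecialLinearGroup (Fin 4) F => (g : Matrix (Fin 4) (Fin 4) F)) hz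
    simp only [Matrix.SpecialLinearGroup.coe_mul, tvm_val, toAdd_ofAdd, one_smul] at h2
    rw [mul_add, add_mul, mul_one, one_mul, mul_vecMulVec, vecMulVec_mul] at h2
    exact add_left_cancel h2
  have h2 : ∀ j, (φ ᵥ* (h : Matrix (Fin 4) (Fin 4) F)) j =
      (e i)⁻¹ * ((h : Matrix (Fin 4) (Fin 4) F) *ᵥ e) i * φ j := by
    intro j
    have h3 := congrFun (congrFun h1 i) j
    rw [vecMulVec_apply, vecMulVec_apply] at h3
    rw [mul_assoc, h3, inv_mul_cancel_left₀ hi]
  have h3 : ∀ w, φ ⬝ᵥ w = 0 → φ ⬝ᵥ ((h : Matrix (Fin 4) (Fin 4) F) *ᵥ w) = 0 := by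
    intro w hw
    rw [dotProduct_mulVec]
    have h4 : φ ᵥ* (h : Matrix (Fin 4) (Fin 4) F) = ((e i)⁻¹ * ((h : Matrix (Fin 4) (Fin 4) F) *ᵥ e) i) • φ :=
      funext h2
    rw [h4, smul_dotProduct, hw, smul_zero]
  -- the subspaces
  let X : Submodule F (Fin 4 → F) := fixs (h : Matrix (Fin 4) (Fin 4) F)
  let ℓ : (Fin 4 → F) →ₗ[F] F :=
    { toFun := fun w => φ ⬝ᵥ w
      map_add' := dotProduct_add φ
      map_smul' := fun c w => dotProduct_smul c φ w }
  have hℓ : Function.Surjective ℓ := by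
    obtain ⟨j, hj⟩ := Function.ne_iff.1 hφ
    intro c
    refine ⟨Pi.single j (c * (φ j)⁻¹), ?_⟩
    change φ ⬝ᵥ _ = _
    rw [dotProduct_single, mul_comm, mul_assoc, inv_mul_cancel₀ hj, mul_one]
  have hdim : Module.finrank F (LinearMap.ker ℓ) = 3 := by
    have h4 := LinearMap.finrank_range_add_finrank_ker ℓ
    rw [LinearMap.range_eq_top.2 hℓ, finrank_top, Module.finrank_self, Module.finrank_fin_fun] at h4
    omega
  have hcF : Nat.card F = 3 := by rw [Nat.card_eq_fintype_card, hF]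
  have hV : Nat.card (Set.univ : Set (Fin 4 → F)) ≡ Nat.card X [MOD 5] := by
    have h4 := card_fixs h5 Set.univ (fun _ _ => trivial)
    simp only [Set.mem_univ, true_and] at h4
    exact h4
  have hW : Nat.card (LinearMap.ker ℓ) ≡ Nat.card (LinearMap.ker ℓ ⊓ X : Submodule F (Fin 4 → F)) [MOD 5] :=
    card_fixs h5 (LinearMap.ker ℓ : Set (Fin 4 → F)) (fun w hw => h3 w hw)
  rw [Module.natCard_eq_pow_finrank (K := F) (V := LinearMap.ker ℓ), hdim,
    Module.natCard_eq_pow_finrank (K := F) (V := (LinearMap.ker ℓ ⊓ X : Submodule F (Fin 4 → F))), hcF] at hW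
  rw [Nat.card_univ, Module.natCard_eq_pow_finrank (K := F) (V := Fin 4 → F), Module.finrank_fin_fun,
    Module.natCard_eq_pow_finrank (K := F) (V := X), hcF] at hV
  have hj : Module.finrank F (LinearMap.ker ℓ ⊓ X : Submodule F (Fin 4 → F)) ≤ 3 := by
    rw [← hdim]; exact Submodule.finrank_mono inf_le_left
  have hjk : Module.finrank F (LinearMap.ker ℓ ⊓ X : Submodule F (Fin 4 → F)) ≤ Module.finrank F X :=
    Submodule.finrank_mono inf_le_right
  have hk : Module.finrank F X ≤ 4 := by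
    have := Submodule.finrank_le X
    rwa [Module.finrank_fin_fun] at this
  have hX : Module.finrank F X = 4 := by
    generalize Module.finrank F (LinearMap.ker ℓ ⊓ X : Submodule F (Fin 4 → F)) = j at *
    generalize Module.finrank F X = k at *
    interval_cases j <;> interval_cases k <;> first | rfl | (exfalso; revert hW hV; decide)
  have hX' : X = ⊤ := Submodule.eq_top_of_finrank_eq (by rw [hX, Module.finrank_fin_fun])
  apply Subtype.ext
  change (h : Matrix (Fin 4) (Fin 4) F) = 1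
  rw [← Matrix.toLin'.injective.eq_iff, Matrix.toLin'_one]
  apply LinearMap.ext
  intro w
  rw [Matrix.toLin'_apply]
  have : w ∈ X := by rw [hX']; trivial
  exact this

theorem char3 {K : Type*} [Group K] (hK : Cond K) {F : Type*} [Field F] [Fintype F] {n : ℕ} (hn : 2 ≤ n)
    (h3 : Fintype.card F % 3 = 0) (e : K ≃* ProjectiveSpecialLinearGroup (Fin n) F) : False := by
  have h3F := Fact.mk Nat.prime_three
  have hchar := charP_three h3
  obtain ⟨m, -, hm⟩ := FiniteField.card F 3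
  have hm1 : 1 ≤ (m : ℕ) := m.pos
  have hv := v_eq hK hn e
  have hv0 : ∀ j, j ≠ 0 → v (Fintype.card F ^ j - 1) = 0 := by
    intro j hj
    apply v_of_not
    intro h0
    have hpos : 0 < Fintype.card F ^ j := pow_pos Fintype.card_pos j
    have h4 : 3 ∣ Fintype.card F ^ j := dvd_pow (Nat.dvd_of_mod_eq_zero h3) hj
    omega
  have hvq : v (Fintype.card F) = m := by rw [hm, v_pow, v_three, mul_one]
  have hvg : v (Nat.gcd n (Fintype.card F - 1)) = 0 := by
    apply v_of_not
    intro h0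
    have h4 : 3 ∣ Fintype.card F - 1 := (Nat.dvd_of_mod_eq_zero h0).trans (Nat.gcd_dvd_right _ _)
    have : 1 < Fintype.card F := Fintype.one_lt_card
    omega
  have hsum : ∑ i ∈ Finset.range n, (i * v (Fintype.card F) + v (Fintype.card F ^ (n - i) - 1)) =
      (n * (n - 1) / 2) * m := by
    rw [← Finset.sum_range_id, Finset.sum_mul]
    refine Finset.sum_congr rfl fun i hi => ?_
    rw [hv0 _ (by have := Finset.mem_range.1 hi; omega), hvq, add_zero]
  have hv1 : v (Fintype.card F - 1) = 0 := by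
    have := hv0 1 one_ne_zero
    rwa [pow_one] at this
  rw [hsum, hvg, hv1] at hv
  have hn4 : n ≤ 4 := by
    by_contra hcon
    have h5 : 5 * 4 ≤ n * (n - 1) := Nat.mul_le_mul (by omega) (by omega)
    have h6 : 10 ≤ n * (n - 1) / 2 := by omega
    have h7 : 10 * 1 ≤ (n * (n - 1) / 2) * m := Nat.mul_le_mul h6 hm1
    omega
  -- the setting
  let f := QuotientGroup.mk' (center (Matrix.SpecialLinearGroup (Fin n) F))
  have hf : Function.Surjective f := QuotientGroup.mk'_surjective _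
  have hK' := hK.congr e
  have hker : ∀ c, f c = 1 → ∀ k, c ^ 3 ^ k = 1 → c = 1 := fun c hc k h => sl_ker hn c hc k h
  obtain ⟨T, hT, hTf⟩ := exists_T hK' f hf hker
  obtain ⟨x, φ, hφx, hx, hφ, hc⟩ := exists_tv (p := 3) hn T (IsPGroup.of_card hT)
  have hcard := card_root hK' f hker hTf (tvm x φ hφx) (tvm_injective hφx hx hφ) (by
    intro a
    change Multiplicative.ofAdd (3 • a.toAdd) = 1
    rw [← Nat.cast_smul_eq_nsmul F, CharP.cast_eq_zero, zero_smul]
    rfl) hc
  have hcard' : Fintype.card F ≤ 3 := by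
    have : Nat.card (Multiplicative F) = Fintype.card F := by
      rw [← Nat.card_eq_fintype_card]
      exact Nat.card_congr Multiplicative.toAdd
    rwa [this] at hcard
  have hmm : (m : ℕ) = 1 := by
    by_contra hcon
    have h5 : 3 ^ 2 ≤ 3 ^ (m : ℕ) := Nat.pow_le_pow_right (by norm_num) (by omega)
    rw [← hm] at h5
    omega
  rw [hmm, pow_one] at hm
  rw [hmm] at hv
  have hn' : n = 4 := by
    interval_cases n <;> simp_all
  subst hn'
  obtain ⟨h, h5, h1, hz⟩ := exists_five hK' f hf hker (by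
    intro c hc
    have h2 := (QuotientGroup.eq_one_iff _).1 hc
    refine ⟨?_, fun y => ((mem_center_iff.1 h2) y).symm⟩
    rw [Matrix.SpecialLinearGroup.mem_center_iff] at h2
    obtain ⟨r, hr4, hr⟩ := h2
    apply Subtype.ext
    change (c : Matrix (Fin 4) (Fin 4) F) ^ 4 = 1
    rw [← hr, ← map_pow]
    rw [Fintype.card_fin] at hr4
    rw [hr4, map_one]) hTf (z := tvm x φ hφx (Multiplicative.ofAdd 1)) (by
    rw [← map_pow]
    have : (Multiplicative.ofAdd (1 : F)) ^ 3 = 1 := by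
      change Multiplicative.ofAdd (3 • (1 : F)) = 1
      rw [← Nat.cast_smul_eq_nsmul F, CharP.cast_eq_zero, zero_smul]
      rfl
    rw [this, map_one]) (by
    intro h0
    have h4 : Multiplicative.ofAdd (1 : F) = 1 := tvm_injective hφx hx hφ (by rw [h0, map_one])
    exact one_ne_zero (congrArg Multiplicative.toAdd h4)) (fun t ht => hc t ht _)
  exact h1 (four_three hm hφx hx hφ h5 hz)

/-- no `PSL_n(q)` -/
theorem not {K : Type*} [Group K] (hK : Cond K) (h : Cfsg.IsPSL K) : False := by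
  obtain ⟨F, _, _, n, hn, -, ⟨e⟩⟩ := h
  by_cases h3 : Fintype.card F % 3 = 0
  · exact char3 hK hn h3 e
  · exact not_three hK hn h3 e

end PSL

end Cfsg.Agent.H846.Elim
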