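import Cfsg.Agent.H846.Elim.PSLf
import Cfsg.Agent.ClassicalGeometry.PSUAutSylow
import Cfsg.Agent.S0279
import Cfsg.Agent.S0280
import Cfsg.Agent.S0782

/-!
# `Cond` fails for `PSU_n(3^f)` (helper846)
-/

set_option autoImplicit false

namespace Cfsg.Agent.H846.Elim.PSU

open Subgroup Matrix Val Cfsg
open Cfsg.Agent.LieClassical.HermBasic Cfsg.Agent.LieClassical.HermSiegel
  Cfsg.Agent.LieClassical.HermGen Cfsg.Agent.LieClassical.SUBasic
  Cfsg.Agent.ClassicalGeometry.PSUAutBasic

variable {F : Type*} [Field F] [Fintype F] {q n : ℕ}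

/-- the factors of the order -/
theorem v_eq {K : Type*} [Group K] (hK : Cond K) (hF : Fintype.card F = q ^ 2) (hn : 2 ≤ n)
    (e : K ≃* PSU n F q) :
    v (Nat.gcd n (q + 1)) + (v (q + 1) + 6) = (n * (n - 1) / 2) * v q +
      ∑ i ∈ Finset.range n, v (if Even i then q ^ (i + 1) + 1 else q ^ (i + 1) - 1) := by
  have hq : 2 ≤ q := two_le hF
  have h1 := S0280.result (F := F) hF n hn
  have h2 := (hK.congr e).v_card
  have h3 := (hK.congr e).fin
  have h4 : Nat.card (PSU n F q) ≠ 0 := Nat.card_pos.ne'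
  have h5 : Nat.gcd n (q + 1) ≠ 0 := by
    intro h
    have := Nat.eq_zero_of_gcd_eq_zero_left h
    omega
  have h6 : ∀ i ∈ Finset.range n, (if Even i then q ^ (i + 1) + 1 else q ^ (i + 1) - 1) ≠ 0 := by
    intro i _
    split_ifs
    · omega
    · exact sub_ne hq (by omega)
  have h7 := congrArg v h1
  rw [v_mul h5 (mul_ne_zero (by omega) h4), v_mul (by omega) h4, h2,
    v_mul (pow_ne_zero _ (by omega)) (Finset.prod_ne_zero_iff.2 h6), v_pow, v_prod _ _ h6] at h7
  exact h7

/-- the elements of trace zero -/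
def tz (hF : Fintype.card F = q ^ 2) : AddSubgroup F where
  carrier := {μ | μ + μ ^ q = 0}
  zero_mem' := by
    change (0 : F) + 0 ^ q = 0
    rw [zero_pow_q hF, add_zero]
  add_mem' {a b} ha hb := by
    change a + b + (a + b) ^ q = 0
    change a + a ^ q = 0 at ha
    change b + b ^ q = 0 at hb
    rw [add_pow_q hF]
    linear_combination ha + hb
  neg_mem' {a} ha := by
    change -a + (-a) ^ q = 0
    change a + a ^ q = 0 at ha
    rw [neg_pow_q hF]
    linear_combination -ha

theorem tz_prop {hF : Fintype.card F = q ^ 2} (a : tz hF) : (a : F) + (a : F) ^ q = 0 := a.2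

theorem le_card_tz (hF : Fintype.card F = q ^ 2) : q ≤ Nat.card (Multiplicative (tz hF)) := by
  obtain ⟨x, hx0, hx⟩ := exists_trace_zero_ne hF
  refine (card_fixed hF).symm.le.trans ?_
  rw [Nat.card_congr Multiplicative.toAdd]
  refine Nat.card_le_card_of_injective (fun c : {c : F // c ^ q = c} => (⟨c.1 * x, ?_⟩ : tz hF)) ?_
  · change c.1 * x + (c.1 * x) ^ q = 0
    rw [mul_pow, c.2]
    linear_combination c.1 * hx
  · intro a b hab
    have h1 : a.1 * x = b.1 * x := congrArg Subtype.val hab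
    exact Subtype.ext (mul_right_cancel₀ hx0 h1)

/-- the root group -/
def root (hF : Fintype.card F = q ^ 2) (u : Fin n → F) (hu : hermForm n F q u u = 0) :
    Multiplicative (tz hF) →* SU n F q where
  toFun μ := transv hF u hu (μ.toAdd : F) (tz_prop _)
  map_one' := transv_zero hF hu _
  map_mul' a b := (transv_mul hF hu (tz_prop _) (tz_prop _)).symm

theorem act_root (hF : Fintype.card F = q ^ 2) {u : Fin n → F} (hu : hermForm n F q u u = 0)
    (a : Multiplicative (tz hF)) (w : Fin n → F) :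
    act (root hF u hu a) w = w + ((a.toAdd : F) * hermForm n F q w u) • u := act_transv hF hu (tz_prop _) w

theorem root_injective (hF : Fintype.card F = q ^ 2) {u : Fin n → F} (hu0 : u ≠ 0) (hu : hermForm n F q u u = 0) :
    Function.Injective (root hF u hu) := by
  rw [injective_iff_map_eq_one]
  intro a ha
  obtain ⟨w, hw⟩ := exists_herm_ne_zero hF hu0
  have hw' : hermForm n F q w u ≠ 0 := fun h => hw (herm_eq_zero_swap hF h)
  have h1 := act_root hF hu a w
  rw [ha, act_one] at h1
  have h3 : ((a.toAdd : F) * hermForm n F q w u) • u = 0 := by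
    have := h1.symm
    rwa [add_eq_left] at this
  rcases smul_eq_zero.1 h3 with h4 | h4
  · rcases mul_eq_zero.1 h4 with h5 | h5
    · exact congrArg Multiplicative.ofAdd (Subtype.ext h5 : a.toAdd = 0)
    · exact absurd h5 hw'
  · exact absurd h4 hu0

theorem comm_root (hF : Fintype.card F = q ^ 2) {u : Fin n → F} (hu : hermForm n F q u u = 0) {g : SU n F q}
    (hg : act g u = u) (a : Multiplicative (tz hF)) : g * root hF u hu a = root hF u hu a * g := by
  apply ext_act
  intro w
  rw [act_mul, act_mul, act_root, act_root, act_add, act_smul, hg]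
  congr 3
  conv_rhs => rw [← hg]
  rw [herm_act]

/-- the stabiliser of an isotropic point in `SU_4(3)` has order prime to 5 -/
theorem stab_four (hF : Fintype.card F = 3 ^ 2) {u : Fin 4 → F} (hu0 : u ≠ 0) (hu : hermForm 4 F 3 u u = 0)
    {h : SU 4 F 3} (h5 : h ^ 5 = 1) {c : F} (hc : act h u = c • u) : h = 1 := by
  have hF9 : Nat.card F = 9 := by rw [Nat.card_eq_fintype_card, hF]; rfl
  -- invariance
  have hc0 : c ≠ 0 := by
    rintro rfl
    rw [zero_smul] at hc
    have := act_inv_act h u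
    rw [hc, act_zero] at this
    exact hu0 this.symm
  let W : Submodule F (Fin 4 → F) := Submodule.span F {u}
  have hW : Module.finrank F W = 1 := finrank_span_singleton hu0
  have hmem : ∀ w, w ∈ W ↔ (slToMat 4 F (h : Matrix.SpecialLinearGroup (Fin 4) F)) *ᵥ w ∈ W := by
    intro w
    change w ∈ W ↔ act h w ∈ W
    constructor
    · intro hw
      obtain ⟨a, rfl⟩ := Submodule.mem_span_singleton.1 hw
      rw [act_smul, hc]
      exact Submodule.mem_span_singleton.2 ⟨a * c, by rw [mul_smul]⟩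
    · intro hw
      obtain ⟨a, ha⟩ := Submodule.mem_span_singleton.1 hw
      refine Submodule.mem_span_singleton.2 ⟨a * c⁻¹, ?_⟩
      apply act_injective h
      rw [act_smul, hc, ← ha, smul_smul, mul_assoc, inv_mul_cancel₀ hc0, mul_one]
  have h1 := S0782.result hF 4 1 (by norm_num) (by norm_num) W hW (by
    intro x hx y hy
    obtain ⟨a, rfl⟩ := Submodule.mem_span_singleton.1 hx
    obtain ⟨b, rfl⟩ := Submodule.mem_span_singleton.1 hy
    rw [herm_smul_left, herm_smul_right, hu, mul_zero, mul_zero])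
  have h2 : h ∈ (stabilizing (slToMat 4 F) (W : Set (Fin 4 → F))).subgroupOf (SU 4 F 3) := hmem
  have h3 : ¬ 5 ∣ Nat.card ((stabilizing (slToMat 4 F) (W : Set (Fin 4 → F))).subgroupOf (SU 4 F 3)) := by
    intro h4
    have h5 := Dvd.dvd.mul_left h4 (3 + 1)
    rw [h1] at h5
    revert h5
    decide
  let h' : (stabilizing (slToMat 4 F) (W : Set (Fin 4 → F))).subgroupOf (SU 4 F 3) := ⟨h, h2⟩
  have h4 : h' ^ 5 = 1 := Subtype.ext h5
  have h5 : orderOf h' ∣ 5 := orderOf_dvd_of_pow_eq_one h4
  rcases (Nat.dvd_prime Nat.prime_five).1 h5 with h6 | h6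
  · exact congrArg Subtype.val (orderOf_eq_one_iff.1 h6)
  · exact absurd (h6 ▸ orderOf_dvd_natCard h') h3

theorem char3 {K : Type*} [Group K] (hK : Cond K) (hF : Fintype.card F = q ^ 2) (hn : 3 ≤ n)
    (h3 : q % 3 = 0) (e : K ≃* PSU n F q) : False := by
  have h3F := Fact.mk Nat.prime_three
  have hq : 2 ≤ q := two_le hF
  have hcF : Fintype.card F % 3 = 0 := by rw [hF, pow_two, Nat.mul_mod, h3]
  have hchar := PSL.charP_three hcF
  obtain ⟨p, m, hp, hpF, hqm, hm⟩ := exists_prime_pow hF
  have hp3 : p = 3 := CharP.eq F hpF hchar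
  subst hp3
  have hv := v_eq hK hF (by omega) e
  have hsum : ∑ i ∈ Finset.range n, v (if Even i then q ^ (i + 1) + 1 else q ^ (i + 1) - 1) = 0 := by
    apply Finset.sum_eq_zero
    intro i _
    split_ifs
    · exact v_add_three h3 (by omega)
    · exact v_sub_three h3 hq (by omega)
  have hvq : v q = m := by rw [hqm, v_pow, v_three, mul_one]
  have hv1 : v (q + 1) = 0 := v_of_not (by omega)
  have hvg : v (Nat.gcd n (q + 1)) = 0 := by
    apply v_of_not
    intro h0
    have h4 : 3 ∣ q + 1 := (Nat.dvd_of_mod_eq_zero h0).trans (Nat.gcd_dvd_right _ _)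
    omega
  rw [hsum, hvg, hv1, hvq] at hv
  have hn4 : n ≤ 4 := by
    by_contra hcon
    have h5 : 5 * 4 ≤ n * (n - 1) := Nat.mul_le_mul (by omega) (by omega)
    have h6 : 10 ≤ n * (n - 1) / 2 := by omega
    have h7 : 10 * 1 ≤ (n * (n - 1) / 2) * m := Nat.mul_le_mul h6 hm
    omega
  have hK' := hK.congr e
  have hf : Function.Surjective (pr n F q) := pr_surjective
  have hker : ∀ c, pr n F q c = 1 → ∀ k, c ^ 3 ^ k = 1 → c = 1 := fun c hc k h =>
    eq_one_of_center_of_pow hF hn (pr_eq_one_iff.1 hc) h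
  obtain ⟨T, hT, hTf⟩ := exists_T hK' (pr n F q) hf hker
  obtain ⟨u, hu0, hu, hfix⟩ := Cfsg.Agent.ClassicalGeometry.PSUAutSylow.exists_fixed 3 hF (by omega)
    (IsPGroup.of_card (p := 3) hT)
  have hcube : ∀ a : Multiplicative (tz hF), a ^ 3 = 1 := by
    intro a
    have h1 : 3 • a.toAdd = (0 : tz hF) := by
      apply Subtype.ext
      change 3 • (a.toAdd : F) = 0
      rw [← Nat.cast_smul_eq_nsmul F, CharP.cast_eq_zero, zero_smul]
    exact congrArg Multiplicative.ofAdd h1
  have hcard := card_root hK' (pr n F q) hker hTf (root hF u hu) (root_injective hF hu0 hu) hcube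
    (fun t ht a => comm_root hF hu (hfix t ht) a)
  have hq3 : q ≤ 3 := (le_card_tz hF).trans hcard
  have hqe : q = 3 := by omega
  subst hqe
  have hm1 : m = 1 := by
    have : 3 ^ 1 = 3 ^ m := by rw [pow_one]; exact hqm
    exact (Nat.pow_right_injective (le_refl 2) |> fun _ => (Nat.pow_right_injective (by norm_num : 2 ≤ 3) this)).symm
  rw [hm1] at hv
  have hn' : n = 4 := by
    have h7 : n = 3 ∨ n = 4 := by omega
    rcases h7 with h7 | h7
    · rw [h7] at hv
      omega
    · exact h7
  subst hn'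
  obtain ⟨x, hx0, hx⟩ := exists_trace_zero_ne hF
  let a : Multiplicative (tz hF) := Multiplicative.ofAdd ⟨x, hx⟩
  have ha1 : a ≠ 1 := by
    intro h
    exact hx0 (congrArg Subtype.val (congrArg Multiplicative.toAdd h))
  have hcen : ∀ c, pr 4 F 3 c = 1 → c ^ 4 = 1 ∧ ∀ y, c * y = y * c := by
    intro c hc
    have h2 := pr_eq_one_iff.1 hc
    refine ⟨?_, fun y => ((mem_center_iff.1 h2) y).symm⟩
    have h4 := S0279.result hF 4 (by norm_num)
    have h5 : (⟨c, h2⟩ : center (SU 4 F 3)) ^ Nat.card (center (SU 4 F 3)) = 1 := pow_card_eq_one'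
    rw [h4] at h5
    exact congrArg Subtype.val h5
  obtain ⟨h, h5, h1, hz⟩ := exists_five hK' (pr 4 F 3) hf hker hcen hTf (z := root hF u hu a)
    (by rw [← map_pow, hcube, map_one])
    (fun h0 => ha1 (root_injective hF hu0 hu (by rw [h0, map_one])))
    (fun t ht => comm_root hF hu (hfix t ht) a)
  -- `h` stabilises the point
  have hex : ∃ c : F, act h u = c • u := by
    obtain ⟨w, hw⟩ := exists_herm_ne_zero hF hu0
    have hw' : hermForm 4 F 3 w u ≠ 0 := fun h => hw (herm_eq_zero_swap hF h)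
    have h6 := congrArg (fun g => act g w) hz
    simp only [act_mul, act_root, act_add, act_smul] at h6
    have h7 := add_left_cancel h6
    have h8 : (a.toAdd : F) * hermForm 4 F 3 w u ≠ 0 := mul_ne_zero hx0 hw'
    refine ⟨((a.toAdd : F) * hermForm 4 F 3 w u)⁻¹ * ((a.toAdd : F) * hermForm 4 F 3 (act h w) u), ?_⟩
    rw [mul_smul, ← h7, smul_smul, inv_mul_cancel₀ h8, one_smul]
  obtain ⟨c, hc⟩ := hex
  exact h1 (stab_four hF hu0 hu h5 hc)

end Cfsg.Agent.H846.Elim.PSU
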