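import Cfsg.Agent.H846.Elim.PSUa
import Cfsg.Agent.Phan.Ext
import Cfsg.Agent.S0281

/-!
# `Cond` fails for most `PSU_n(q)`, `q` prime to 3 (helper846)
-/

set_option autoImplicit false

namespace Cfsg.Agent.H846.Elim.PSU

open Subgroup Matrix Val Cfsg
open Cfsg.Agent.LieClassical.HermBasic Cfsg.Agent.LieClassical.HermSiegel
  Cfsg.Agent.LieClassical.HermGen Cfsg.Agent.LieClassical.SUBasic
  Cfsg.Agent.ClassicalGeometry.PSUAutBasic

variable {F : Type*} [Field F] [Fintype F] {q n : ℕ}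

/-- a central element fixing a nonzero vector is trivial -/
theorem eq_one_of_center_of_fix (hF : Fintype.card F = q ^ 2) (hn : 3 ≤ n) {z : SU n F q}
    (hz : z ∈ center (SU n F q)) {w : Fin n → F} (hw0 : w ≠ 0) (hw : act z w = w) : z = 1 := by
  obtain ⟨c, -, -, hc⟩ := exists_scalar_of_mem_center hF hn hz
  have h1 : c = 1 := by
    have h2 : (c - 1) • w = 0 := by rw [sub_smul, one_smul, ← hc, hw, sub_self]
    exact sub_eq_zero.1 ((smul_eq_zero.1 h2).resolve_right hw0)
  apply ext_act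
  intro x
  rw [hc, h1, one_smul, act_one]

/-- the blocks -/
noncomputable def blocks {K₀ : Type*} [Field K₀] (hF : Fintype.card F = q ^ 2) (k : ℕ) (h : 2 * k ≤ n)
    (σ : SL2 K₀ →* SU 2 F q) : (Fin k → SL2 K₀) →* SU n F q :=
  MonoidHom.noncommPiCoprod (fun i : Fin k => (Cfsg.Agent.Phan.emb (m := 2) hF (2 * i) (by omega)).comp σ) (by
    intro i j hij x y
    refine Cfsg.Agent.Phan.emb_comm hF _ _ ?_ _ _
    have : (i : ℕ) ≠ j := fun h => hij (Fin.ext h)
    omega)

theorem blocks_single {K₀ : Type*} [Field K₀] (hF : Fintype.card F = q ^ 2) (k : ℕ) (h : 2 * k ≤ n)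
    (σ : SL2 K₀ →* SU 2 F q) (i : Fin k) (c : SL2 K₀) :
    blocks hF k h σ (Pi.mulSingle i c) = Cfsg.Agent.Phan.emb (m := 2) hF (2 * i) (by omega) (σ c) :=
  MonoidHom.noncommPiCoprod_mulSingle _ _ _

/-- the kernel -/
theorem blocks_ker {K₀ : Type*} [Field K₀] (hF : Fintype.card F = q ^ 2) (hn : 3 ≤ n) (k : ℕ) (h : 2 * k ≤ n)
    {σ : SL2 K₀ →* SU 2 F q} (hσ : Function.Injective σ) (i : Fin k) (c : SL2 K₀)
    (hc : ((pr n F q).comp (blocks hF k h σ)) (Pi.mulSingle i c) = 1) : c = 1 := by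
  change pr n F q (blocks hF k h σ (Pi.mulSingle i c)) = 1 at hc
  rw [blocks_single, pr_eq_one_iff] at hc
  apply hσ
  apply Cfsg.Agent.Phan.emb_injective hF (2 * i) (by omega : 2 * (i : ℕ) + 2 ≤ n)
  rw [map_one, map_one]
  -- a coordinate outside the block
  have hx : ∃ x : Fin n, (x : ℕ) < 2 * i ∨ 2 * (i : ℕ) + 2 ≤ x := by
    rcases Nat.eq_zero_or_pos i with h0 | h0
    · exact ⟨⟨2, by omega⟩, Or.inr (by simp [h0])⟩
    · exact ⟨⟨0, by omega⟩, Or.inl (by simpa using h0)⟩
  obtain ⟨x, hx⟩ := hx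
  refine eq_one_of_center_of_fix hF hn hc (w := Pi.single x 1) ?_ ?_
  · intro h0
    have := congrFun h0 x
    rw [Pi.single_eq_same] at this
    exact one_ne_zero this
  · obtain ⟨c', -, -, hc'⟩ := exists_scalar_of_mem_center hF hn hc
    have h1 := Cfsg.Agent.Phan.emb_mulVec_lt hF (by omega : 2 * (i : ℕ) + 2 ≤ n) (σ c) (Pi.single x 1) hx
    have h2 := congrFun (hc' (Pi.single x 1)) x
    have h3 : act (Cfsg.Agent.Phan.emb (m := 2) hF (2 * i) (by omega) (σ c)) (Pi.single x 1) x =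
      (Pi.single x (1 : F) : Fin n → F) x := h1
    rw [h3, Pi.smul_apply, Pi.single_eq_same, smul_eq_mul, mul_one] at h2
    rw [hc', ← h2, one_smul]

/-- the field with `q` elements -/
theorem exists_field (hF : Fintype.card F = q ^ 2) : ∃ (K₀ : Type) (_ : Field K₀) (_ : Fintype K₀)
    (σ : SL2 K₀ →* SU 2 F q), Fintype.card K₀ = q ∧ Function.Injective σ := by
  obtain ⟨p, m, hp, hpF, hqm, hm⟩ := exists_prime_pow hF
  have := Fact.mk hp
  let K₀ := GaloisField p m
  have hfin : Finite K₀ := inferInstance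
  have hft : Fintype K₀ := Fintype.ofFinite K₀
  have hcard : Fintype.card K₀ = q := by
    rw [← Nat.card_eq_fintype_card, GaloisField.card p m hm.ne', hqm]
  obtain ⟨e⟩ := S0281.result (F := F) (K := K₀) hF hcard
  exact ⟨K₀, inferInstance, hft, e.symm.toMonoidHom, hcard, e.symm.injective⟩

theorem big {K : Type*} [Group K] (hK : Cond K) (hF : Fintype.card F = q ^ 2) (hn : 10 ≤ n)
    (e : K ≃* PSU n F q) : False := by
  obtain ⟨K₀, _, _, σ, -, hσ⟩ := exists_field hF
  exact pi5 (hK.congr e) ((pr n F q).comp (blocks hF 5 (by omega) σ)) fun i c hc =>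
    Or.inl (blocks_ker hF (by omega) 5 (by omega) hσ i c hc)

theorem case27 {K : Type*} [Group K] (hK : Cond K) (hF : Fintype.card F = q ^ 2) (hn : 3 ≤ n)
    (h3 : q % 3 ≠ 0) (ha : 3 ≤ v (q ^ 2 - 1)) (e : K ≃* PSU n F q) : False := by
  obtain ⟨K₀, _, _, σ, hc, hσ⟩ := exists_field hF
  refine no27_SL2 (F := K₀) (hK.congr e) (by rw [hc]; exact h3) (by rw [hc]; exact ha)
    (((pr n F q).comp (blocks hF 1 (by omega) σ)).comp (MonoidHom.mulSingle (fun _ : Fin 1 => SL2 K₀) 0)) ?_
  intro c hc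
  exact Or.inl (blocks_ker hF hn 1 (by omega) hσ 0 c hc)

theorem v_gcd_le {n m : ℕ} (hn : n ≠ 0) : v (Nat.gcd n m) ≤ v n := by
  obtain ⟨c, hc⟩ := Nat.gcd_dvd_left n m
  have hc0 : c ≠ 0 := by
    rintro rfl
    rw [mul_zero] at hc
    exact hn hc
  have hg0 : Nat.gcd n m ≠ 0 := by
    intro h0
    exact hn (Nat.eq_zero_of_gcd_eq_zero_left h0)
  conv_rhs => rw [hc]
  rw [v_mul hg0 hc0]
  omega

theorem t1 (h1 : q % 3 = 1) (hq : 2 ≤ q) (i : ℕ) : v (if Even i then q ^ (i + 1) + 1 else q ^ (i + 1) - 1) =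
    if Even i then 0 else v (q ^ 2 - 1) + v (i + 1) := by
  split_ifs
  · exact v_plus_one h1
  · exact v_any h1 hq (by omega)

theorem t2 (h2 : q % 3 = 2) (hq : 2 ≤ q) (i : ℕ) : v (if Even i then q ^ (i + 1) + 1 else q ^ (i + 1) - 1) =
    v (q ^ 2 - 1) + v (i + 1) := by
  split_ifs with h
  · obtain ⟨k, hk⟩ := h
    exact v_plus_odd h2 (by omega)
  · have h3 := Nat.not_even_iff_odd.1 h
    obtain ⟨k, hk⟩ := h3
    have h4 : i + 1 = 2 * (k + 1) := by omega
    rw [h4, v_even (by omega) hq (by omega), v_mul (by norm_num) (by omega), v_two, zero_add]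

/-- characteristic prime to 3: `n = 6`, `q ≡ 2`, `9 ∤ q + 1` remains -/
theorem small {K : Type*} [Group K] (hK : Cond K) (hF : Fintype.card F = q ^ 2) (hn : 3 ≤ n)
    (h3 : q % 3 ≠ 0) (e : K ≃* PSU n F q) : n = 6 ∧ q % 3 = 2 := by
  have hq : 2 ≤ q := two_le hF
  have hv := v_eq hK hF (by omega) e
  have ha := a_pos h3 hq
  by_contra hcon
  rcases Nat.lt_or_ge n 10 with hn10 | hn10
  · by_cases h27 : 3 ≤ v (q ^ 2 - 1)
    · exact case27 hK hF hn h3 h27 e
    · rw [v_of_not h3, mul_zero, zero_add] at hv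
      have hg := v_gcd_le (n := n) (m := q + 1) (by omega)
      have h12 : q % 3 = 1 ∨ q % 3 = 2 := by omega
      rcases h12 with h1 | h2
      · rw [Finset.sum_congr rfl fun i _ => t1 h1 hq i] at hv
        have hv1 : v (q + 1) = 0 := v_of_not (by omega)
        have hvg : v (Nat.gcd n (q + 1)) = 0 := by
          apply v_of_not
          intro h0
          have h4 : 3 ∣ q + 1 := (Nat.dvd_of_mod_eq_zero h0).trans (Nat.gcd_dvd_right _ _)
          omega
        rw [hvg, hv1] at hv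
        generalize v (q ^ 2 - 1) = a at *
        interval_cases n <;>
          simp [Finset.sum_range_succ, v_one, v_two, v_three, v_four, v_five, v_six, v_seven, v_eight, v_nine,
            show ¬ Even 3 by decide, show Even 4 by decide, show ¬ Even 5 by decide, show Even 6 by decide,
            show ¬ Even 7 by decide, show Even 8 by decide] at hv <;> omega
      · rw [Finset.sum_congr rfl fun i _ => t2 h2 hq i, v_add_one h2] at hv
        have h6 : n ≠ 6 := fun h => hcon ⟨h, h2⟩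
        generalize v (q ^ 2 - 1) = a at *
        generalize v (Nat.gcd n (q + 1)) = g at *
        interval_cases n <;>
          simp [Finset.sum_range_succ, v_one, v_two, v_three, v_four, v_five, v_six, v_seven, v_eight, v_nine] at hv hg <;>
          omega
  · exact big hK hF hn10 e

end Cfsg.Agent.H846.Elim.PSU
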