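import Cfsg.Agent.H846.Elim.PSUb

/-!
# `Cond` fails for `PSU_6(q)`, `q ≡ 2 (mod 3)`, `q > 2` (helper846)
-/

set_option autoImplicit false

namespace Cfsg.Agent.H846.Elim.PSU

open Subgroup Matrix Val Cfsg
open Cfsg.Agent.LieClassical.HermBasic Cfsg.Agent.LieClassical.HermSiegel
  Cfsg.Agent.LieClassical.HermGen Cfsg.Agent.LieClassical.SUBasic
  Cfsg.Agent.ClassicalGeometry.PSUAutBasic

variable {F : Type*} [Field F] {q n : ℕ}

theorem act_suDiag (a : Fin n → F) (hd : ∏ i, a i = 1) (ha : ∀ i, a i ^ (q + 1) = 1) (w : Fin n → F) (k : Fin n) :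
    act (suDiag q a hd ha) w k = a k * w k := by
  change (Matrix.diagonal a *ᵥ w) k = _
  rw [mulVec_diagonal]

/-- monomial matrices -/
def suMon (σ : Equiv.Perm (Fin n)) (s : Fin n → F) (hs : ∀ i, s i ^ (q + 1) = 1)
    (hd : ((Equiv.Perm.sign σ : ℤ) : F) * ∏ i, s i = 1) : SU n F q :=
  ⟨⟨σ.permMatrix F * Matrix.diagonal s, by rw [det_mul, det_diagonal, det_permutation]; exact hd⟩, by
    refine (Cfsg.Agent.LieClassical.SUBasic.mem_SU_iff _).2 ?_
    intro u v
    simp only [hermForm_apply, ← mulVec_mulVec, Matrix.permMatrix_mulVec, mulVec_diagonal]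
    rw [← Equiv.sum_comp σ (fun i => u i * v i ^ q)]
    refine Finset.sum_congr rfl fun i _ => ?_
    have h := hs (σ i)
    rw [pow_succ'] at h
    simp only [Function.comp_apply, mulVec_diagonal]
    calc s (σ i) * u (σ i) * (s (σ i) * v (σ i)) ^ q = (s (σ i) * s (σ i) ^ q) * (u (σ i) * v (σ i) ^ q) := by
          rw [mul_pow]; ring
      _ = u (σ i) * v (σ i) ^ q := by rw [h, one_mul]⟩

theorem act_suMon (σ : Equiv.Perm (Fin n)) (s : Fin n → F) (hs : ∀ i, s i ^ (q + 1) = 1)
    (hd : ((Equiv.Perm.sign σ : ℤ) : F) * ∏ i, s i = 1) (w : Fin n → F) (k : Fin n) :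
    act (suMon σ s hs hd) w k = s (σ k) * w (σ k) := by
  change ((σ.permMatrix F * Matrix.diagonal s) *ᵥ w) k = _
  rw [← mulVec_mulVec, Matrix.permMatrix_mulVec]
  simp [mulVec_diagonal]

theorem mon_comm_diag (σ : Equiv.Perm (Fin n)) (s : Fin n → F) (hs : ∀ i, s i ^ (q + 1) = 1)
    (hd : ((Equiv.Perm.sign σ : ℤ) : F) * ∏ i, s i = 1) (a : Fin n → F) (hd' : ∏ i, a i = 1)
    (ha : ∀ i, a i ^ (q + 1) = 1) (h : ∀ k, a (σ k) = a k) :
    suMon σ s hs hd * suDiag q a hd' ha = suDiag q a hd' ha * suMon σ s hs hd := by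
  apply ext_act
  intro w
  funext k
  rw [act_mul, act_mul, act_suMon, act_suDiag, act_suDiag, act_suMon, h]
  ring

theorem diag_comm_diag (a b : Fin n → F) (hd : ∏ i, a i = 1) (ha : ∀ i, a i ^ (q + 1) = 1) (hd' : ∏ i, b i = 1)
    (hb : ∀ i, b i ^ (q + 1) = 1) :
    suDiag q a hd ha * suDiag q b hd' hb = suDiag q b hd' hb * suDiag q a hd ha := by
  apply ext_act
  intro w
  funext k
  rw [act_mul, act_mul, act_suDiag, act_suDiag, act_suDiag, act_suDiag]
  ring

theorem suDiag_pow (a : Fin n → F) (hd : ∏ i, a i = 1) (ha : ∀ i, a i ^ (q + 1) = 1) (m : ℕ) (w : Fin n → F) (k : Fin n) :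
    act (suDiag q a hd ha ^ m) w k = a k ^ m * w k := by
  induction m with
  | zero => rw [pow_zero, pow_zero, act_one, one_mul]
  | succ m ih => rw [pow_succ', act_mul, act_suDiag, ih]; ring

/-- commutators which are not central -/
theorem comm_notMem [Fintype F] (hF : Fintype.card F = q ^ 2) (hn : 3 ≤ n) {g x : SU n F q} {w : Fin n → F} (hw : w ≠ 0)
    (hgw : act g w = w) (hxw : act x w = w) (hne : g * x ≠ x * g) : g * x * g⁻¹ * x⁻¹ ∉ center (SU n F q) := by
  intro h
  have h1 : g * x * g⁻¹ * x⁻¹ = 1 := by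
    refine eq_one_of_center_of_fix hF hn h hw ?_
    have h2 : act x⁻¹ w = w := by
      conv_lhs => rw [← hxw]
      exact act_inv_act x w
    have h3 : act g⁻¹ w = w := by
      conv_lhs => rw [← hgw]
      exact act_inv_act g w
    rw [act_mul, act_mul, act_mul, h2, h3, hxw, hgw]
  apply hne
  rw [mul_inv_eq_one, mul_inv_eq_iff_eq_mul] at h1
  exact h1

/-- the diagonal entries -/
def dx (w : F) (i : Fin 4) (k : Fin 6) : F := if k = i.castSucc.castSucc then w else if k = 4 then w ^ 2 else 1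

theorem prod_dx {w : F} (hw : w ^ 3 = 1) (i : Fin 4) : ∏ k, dx w i k = 1 := PSL.prod_dd hw i

theorem dx_cube {w : F} (hw : w ^ 3 = 1) (i : Fin 4) (k : Fin 6) : dx w i k ^ 3 = 1 := PSL.dd_cube hw i k

theorem dx_norm {w : F} (hw : w ^ 3 = 1) (h2 : q % 3 = 2) (i : Fin 4) (k : Fin 6) : dx w i k ^ (q + 1) = 1 := by
  have h3 : q + 1 = 3 * ((q + 1) / 3) := by omega
  rw [h3, pow_mul, dx_cube hw, one_pow]

theorem neg_one_norm [Fintype F] (hF : Fintype.card F = q ^ 2) : (-1 : F) ^ (q + 1) = 1 := by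
  rw [pow_succ, neg_pow_q hF, one_pow]
  ring

/-- the signs -/
def sg (F : Type*) [Field F] (k : Fin 6) : F := if k = 5 then -1 else 1

theorem ne5 (i : Fin 4) : (i.castSucc.castSucc : Fin 6) ≠ 5 := PSL.ne5 i

theorem ne4 (i : Fin 4) : (i.castSucc.castSucc : Fin 6) ≠ 4 := by
  intro h
  have := congrArg Fin.val h
  simp at this
  omega

section

variable [Fintype F] (hF : Fintype.card F = q ^ 2) (h2 : q % 3 = 2) {w : F} (hw : w ^ 3 = 1)

/-- the torus elements -/
def xx (i : Fin 4) : SU 6 F q := suDiag q (dx w i) (prod_dx hw i) (dx_norm hw h2 i)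

/-- the reflections -/
def gg (i : Fin 4) : SU 6 F q :=
  suMon (Equiv.swap i.castSucc.castSucc 5) (sg F) (by
    intro k
    unfold sg
    split_ifs
    · exact neg_one_norm hF
    · exact one_pow _) (by
    rw [Equiv.Perm.sign_swap (ne5 i), Fin.prod_univ_six]
    simp [sg])

theorem four (hw1 : w ≠ 1) : Four (fun i => QuotientGroup.mk' (center (SU 6 F q)) (xx h2 hw i))
    (fun i => MulAut.conj (QuotientGroup.mk' (center (SU 6 F q)) (gg hF i))) := by
  have hfix : ∀ i : Fin 4, ∃ m : Fin 4, m ≠ i := by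
    intro i
    by_cases h : i = 0
    · exact ⟨1, by rw [h]; decide⟩
    · exact ⟨0, Ne.symm h⟩
  refine four_of_center (c := fun i => gg hF i * xx h2 hw i * (gg hF i)⁻¹ * (xx h2 hw i)⁻¹) ?_ ?_ ?_ ?_ ?_
  · intro i
    apply ext_act
    intro u
    funext k
    rw [xx, suDiag_pow, act_one, dx_cube hw, one_mul]
  · intro i j
    exact diag_comm_diag _ _ _ _ _ _
  · intro i j hij
    apply mon_comm_diag
    intro k
    by_cases h1 : k = i.castSucc.castSucc
    · rw [h1, Equiv.swap_apply_left, dx, dx, if_neg (Ne.symm (ne5 j)), if_neg (by decide), if_neg, if_neg (ne4 i)]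
      intro h
      apply hij
      simpa using h
    · by_cases h3 : k = 5
      · rw [h3, Equiv.swap_apply_right, dx, dx, if_neg (c := (5 : Fin 6) = _) (Ne.symm (ne5 j)),
          if_neg (c := (5 : Fin 6) = 4) (by decide), if_neg, if_neg (ne4 i)]
        intro h
        apply hij
        simpa using h
      · rw [Equiv.swap_apply_of_ne_of_ne h1 h3]
  · intro i
    group
  · intro i
    obtain ⟨m, hm⟩ := hfix i
    have hmi : (m.castSucc.castSucc : Fin 6) ≠ i.castSucc.castSucc := by
      intro h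
      apply hm
      simpa using h
    refine comm_notMem hF (by norm_num) (w := Pi.single m.castSucc.castSucc 1) ?_ ?_ ?_ ?_
    · intro h0
      have := congrFun h0 m.castSucc.castSucc
      rw [Pi.single_eq_same] at this
      exact one_ne_zero this
    · funext k
      rw [gg, act_suMon]
      by_cases h1 : k = i.castSucc.castSucc
      · rw [h1, Equiv.swap_apply_left, Pi.single_eq_of_ne (Ne.symm (ne5 m)), Pi.single_eq_of_ne hmi.symm, mul_zero]
      · by_cases h3 : k = 5
        · rw [h3, Equiv.swap_apply_right, Pi.single_eq_of_ne hmi.symm, Pi.single_eq_of_ne (Ne.symm (ne5 m)), mul_zero]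
        · rw [Equiv.swap_apply_of_ne_of_ne h1 h3, sg, if_neg h3, one_mul]
    · funext k
      rw [xx, act_suDiag]
      by_cases h1 : k = m.castSucc.castSucc
      · rw [h1, dx, if_neg hmi, if_neg (ne4 m), one_mul]
      · rw [Pi.single_eq_of_ne h1, mul_zero]
    · intro h
      have h1 := congrArg (fun g => act g (Pi.single (i.castSucc.castSucc : Fin 6) (1 : F)) 5) h
      simp only [act_mul] at h1
      rw [gg, act_suMon, xx, act_suDiag, act_suDiag, act_suMon, Equiv.swap_apply_right, Pi.single_eq_same, sg,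
        if_neg (ne5 i), dx, dx, if_pos rfl, if_neg (Ne.symm (ne5 i)), if_neg (by decide)] at h1
      apply hw1
      linear_combination h1

end

/-- `q > 2` -/
theorem six_big [Fintype F] {K : Type*} [Group K] (hK : Cond K) (hF : Fintype.card F = q ^ 2) (h2 : q % 3 = 2)
    (hq2 : 2 < q) (e : K ≃* PSU 6 F q) : False := by
  have hq : 2 ≤ q := two_le hF
  have hcF : Fintype.card F % 3 = 1 := by rw [hF, pow_two, Nat.mul_mod, h2]
  obtain ⟨w, hw⟩ := exists_w hcF
  have hw3 : w ^ 3 = 1 := by linear_combination (w - 1) * hw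
  have h30 : (3 : F) ≠ 0 := three_ne (h3 := inferInstance) (by omega)
  have hw1 : w ≠ 1 := by
    rintro rfl
    apply h30
    linear_combination hw
  -- an element of order `q + 1`
  obtain ⟨ζ, hζ, hζ3⟩ : ∃ ζ : F, ζ ^ (q + 1) = 1 ∧ ζ ^ 3 ≠ 1 := by
    obtain ⟨u, hu⟩ := IsCyclic.exists_ofOrder_eq_natCard (α := Fˣ)
    have hcard := card_units_eq hF
    rw [hcard] at hu
    refine ⟨((u ^ (q - 1) : Fˣ) : F), ?_, ?_⟩
    · rw [← Units.val_pow_eq_pow_val, ← pow_mul, mul_comm, ← hu, pow_orderOf_eq_one, Units.val_one]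
    · intro h
      rw [← Units.val_pow_eq_pow_val] at h
      have h1 : u ^ ((q - 1) * 3) = 1 := by rw [pow_mul]; exact Units.ext h
      have h3 := orderOf_dvd_of_pow_eq_one h1
      rw [hu, mul_comm (q - 1) 3] at h3
      have h4 : q + 1 ∣ 3 := Nat.dvd_of_mul_dvd_mul_right (by omega) h3
      have := Nat.le_of_dvd (by norm_num) h4
      omega
  have hζ0 : ζ ≠ 0 := by
    rintro rfl
    rw [zero_pow (by omega)] at hζ
    exact zero_ne_one hζ
  have h4 := four hF h2 hw3 hw1
  let a : Fin 6 → F := fun k => if k = 0 then ζ else if k = 5 then ζ⁻¹ else 1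
  have ha : ∀ k, a k ^ (q + 1) = 1 := by
    intro k
    change (if k = 0 then ζ else if k = 5 then ζ⁻¹ else 1) ^ (q + 1) = 1
    split_ifs
    · exact hζ
    · rw [inv_pow, hζ, inv_one]
    · exact one_pow _
  have hd : ∏ k, a k = 1 := by
    rw [Fin.prod_univ_six]
    simp [a]
    exact mul_inv_cancel₀ hζ0
  let y : SU 6 F q := suDiag q a hd ha
  refine h4.contra_pow (hK.congr e) (y := QuotientGroup.mk' (center (SU 6 F q)) y) ?_ ?_
  · intro i
    rw [← map_mul, ← map_mul]
    congr 1
    exact diag_comm_diag _ _ _ _ _ _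
  · intro h
    rw [← map_pow] at h
    have h1 := (QuotientGroup.eq_one_iff _).1 h
    have h3 : y ^ 3 = 1 := by
      refine eq_one_of_center_of_fix hF (by norm_num) h1 (w := Pi.single 1 1) ?_ ?_
      · intro h0
        have := congrFun h0 1
        rw [Pi.single_eq_same] at this
        exact one_ne_zero this
      · funext k
        rw [suDiag_pow]
        by_cases hk : k = 1
        · rw [hk]
          have : a 1 = 1 := by
            change (if (1 : Fin 6) = 0 then ζ else if (1 : Fin 6) = 5 then ζ⁻¹ else 1) = 1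
            rw [if_neg (by decide), if_neg (by decide)]
          rw [this, one_pow, one_mul]
        · rw [Pi.single_eq_of_ne hk, mul_zero]
    apply hζ3
    have h5 := congrArg (fun g => act g (Pi.single (0 : Fin 6) (1 : F)) 0) h3
    simp only [act_one] at h5
    rw [suDiag_pow, Pi.single_eq_same, mul_one] at h5
    exact h5

end Cfsg.Agent.H846.Elim.PSU
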