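import Cfsg.Agent.H846.Elim.PSUc
import Cfsg.Agent.S0837
import Cfsg.Agent.S0277

/-!
# `Cond` fails for `PSU_6(2)` (helper846)
-/

set_option autoImplicit false

namespace Cfsg.Agent.H846.Elim.PSU

open Subgroup Matrix Val Cfsg
open Cfsg.Agent.LieClassical.HermBasic Cfsg.Agent.LieClassical.HermSiegel
  Cfsg.Agent.LieClassical.HermGen Cfsg.Agent.LieClassical.SUBasic
  Cfsg.Agent.ClassicalGeometry.PSUAutBasic
open Cfsg.Agent.S0837 (blockHom blockHom_mem blockHom_mulVec blockHom_injective)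

variable {F : Type*} [Field F]

/-- the product of the determinants -/
def dd2 (F : Type*) [Field F] : GU 3 F 2 × GU 3 F 2 →* Fˣ :=
  ((Matrix.GeneralLinearGroup.det).comp (GU 3 F 2).subtype).coprod ((Matrix.GeneralLinearGroup.det).comp (GU 3 F 2).subtype)

/-- the numbering of the coordinates -/
def e33 : Fin 3 ⊕ Fin 3 ≃ Fin 6 := finSumFinEquiv

/-- block diagonal matrices -/
def bh (F : Type*) [Field F] : GU 3 F 2 × GU 3 F 2 →* Matrix (Fin 6) (Fin 6) F :=
  (blockHom F e33).comp (((Units.coeHom (Matrix (Fin 3) (Fin 3) F)).comp (GU 3 F 2).subtype).prodMap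
    ((Units.coeHom (Matrix (Fin 3) (Fin 3) F)).comp (GU 3 F 2).subtype))

theorem bh_apply (AB : GU 3 F 2 × GU 3 F 2) : bh F AB =
    blockHom F e33 (((AB.1 : Matrix.GeneralLinearGroup (Fin 3) F) : Matrix (Fin 3) (Fin 3) F),
      ((AB.2 : Matrix.GeneralLinearGroup (Fin 3) F) : Matrix (Fin 3) (Fin 3) F)) := rfl

theorem det_bh (AB : GU 3 F 2 × GU 3 F 2) : det (bh F AB) = (dd2 F AB : F) := by
  rw [bh_apply]
  change det (Matrix.reindex e33 e33 (Matrix.fromBlocks _ 0 0 _)) = _
  rw [det_reindex_self, det_fromBlocks_zero₂₁]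
  rfl

theorem bh_mem (AB : GU 3 F 2 × GU 3 F 2) (u v : Fin 6 → F) :
    hermForm 6 F 2 (bh F AB *ᵥ u) (bh F AB *ᵥ v) = hermForm 6 F 2 u v :=
  blockHom_mem e33 AB.1.2 AB.2.2 u v

theorem bh_injective : Function.Injective (bh F) := by
  intro a b h
  have h2 := blockHom_injective e33 h
  refine Prod.ext ?_ ?_
  · exact Subtype.ext (Units.ext (congrArg Prod.fst h2))
  · exact Subtype.ext (Units.ext (congrArg Prod.snd h2))

/-- `S(U_3(2) × U_3(2))` in `SU_6(2)` -/
def psi (F : Type*) [Field F] : (dd2 F).ker →* SU 6 F 2 where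
  toFun AB := ⟨⟨bh F AB.1, by
    have h1 : (dd2 F) AB.1 = 1 := AB.2
    rw [det_bh, h1, Units.val_one]⟩, bh_mem AB.1⟩
  map_one' := Subtype.ext (Subtype.ext (map_one (bh F)))
  map_mul' a b := Subtype.ext (Subtype.ext (map_mul (bh F) a.1 b.1))

theorem mat_psi (AB : (dd2 F).ker) : mat (psi F AB) = bh F AB.1 := rfl

theorem psi_injective : Function.Injective (psi F) := by
  intro a b h
  have h1 := congrArg mat h
  rw [mat_psi, mat_psi] at h1
  exact Subtype.ext (bh_injective h1)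

variable [Fintype F]

theorem card_GU3 (hF : Fintype.card F = 2 ^ 2) : Nat.card (GU 3 F 2) = 648 := by
  rw [S0277.result hF 3]
  simp [Finset.prod_range_succ]

theorem dvd_card_psi (hF : Fintype.card F = 2 ^ 2) : 648 * 648 ∣ 3 * Nat.card (dd2 F).ker := by
  have h1 : Nat.card (dd2 F).range ∣ 3 := by
    have h2 : Nat.card (dd2 F).range ∣ Nat.card Fˣ := card_subgroup_dvd_card _
    rwa [card_units_eq hF] at h2
  have h3 : Nat.card (dd2 F).ker * Nat.card (dd2 F).range = 648 * 648 := by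
    rw [← Subgroup.index_ker, Subgroup.card_mul_index, Nat.card_prod, card_GU3 hF]
  rw [← h3, mul_comm]
  exact Nat.mul_dvd_mul_right h1 _

/-- the element `(ω, 1)` -/
def zz {w : F} (hw : w ^ 3 = 1) : (dd2 F).ker :=
  ⟨(⟨⟨scalar (Fin 3) w, scalar (Fin 3) (w ^ 2), by
      rw [← map_mul, ← pow_succ', hw, map_one], by rw [← map_mul, ← pow_succ, hw, map_one]⟩, by
      intro u v
      change hermForm 3 F 2 (scalar (Fin 3) w *ᵥ u) (scalar (Fin 3) w *ᵥ v) = _
      have h1 : ∀ u : Fin 3 → F, scalar (Fin 3) w *ᵥ u = w • u := fun u => by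
        rw [Matrix.scalar_apply, ← Matrix.smul_one_eq_diagonal, smul_mulVec, one_mulVec]
      rw [h1, h1, herm_smul_left, herm_smul_right, ← mul_assoc, ← pow_succ', hw, one_mul]⟩, 1), by
    change (dd2 F) _ = 1
    apply Units.ext
    change det (scalar (Fin 3) w) * det (1 : Matrix (Fin 3) (Fin 3) F) = 1
    rw [Matrix.scalar_apply, det_diagonal, det_one, mul_one, Finset.prod_const, Finset.card_univ, Fintype.card_fin, hw]⟩

theorem zz_comm {w : F} (hw : w ^ 3 = 1) (AB : (dd2 F).ker) : AB * zz hw = zz hw * AB := by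
  apply Subtype.ext
  refine Prod.ext ?_ ?_
  · apply Subtype.ext
    apply Units.ext
    change ((AB.1.1 : Matrix.GeneralLinearGroup (Fin 3) F) : Matrix (Fin 3) (Fin 3) F) * scalar (Fin 3) w =
      scalar (Fin 3) w * ((AB.1.1 : Matrix.GeneralLinearGroup (Fin 3) F) : Matrix (Fin 3) (Fin 3) F)
    exact (Matrix.scalar_commute w (fun r => mul_comm _ _) _).eq.symm
  · change AB.1.2 * 1 = 1 * AB.1.2
    rw [mul_one, one_mul]

theorem exists_z (hF : Fintype.card F = 2 ^ 2) : ∃ z : PSU 6 F 2, z ≠ 1 ∧ z ^ 3 = 1 ∧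
    3 ^ 6 ∣ Nat.card (centralizer ({z} : Set (PSU 6 F 2))) ∧
    2 ^ 5 ∣ Nat.card (centralizer ({z} : Set (PSU 6 F 2))) := by
  have hcF : Fintype.card F % 3 = 1 := by rw [hF]; norm_num
  obtain ⟨w, hw⟩ := exists_w hcF
  have hw3 : w ^ 3 = 1 := by linear_combination (w - 1) * hw
  have h30 : (3 : F) ≠ 0 := three_ne (h3 := inferInstance) (by omega)
  have hw1 : w ≠ 1 := by
    rintro rfl
    apply h30
    linear_combination hw
  let f : (dd2 F).ker →* PSU 6 F 2 := (pr 6 F 2).comp (psi F)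
  have hz3 : zz hw3 ^ 3 = 1 := by
    apply psi_injective
    rw [map_one]
    apply mat_injective
    have h1 : mat (psi F (zz hw3 ^ 3)) = bh F ((zz hw3).1) ^ 3 := by
      rw [mat_psi, ← map_pow]
      rfl
    rw [h1, ← map_pow]
    have h2 : (zz hw3).1 ^ 3 = 1 := by
      refine Prod.ext ?_ ?_
      · apply Subtype.ext
        apply Units.ext
        change (scalar (Fin 3) w) ^ 3 = 1
        rw [← map_pow, hw3, map_one]
      · exact one_pow 3
    rw [h2, map_one]
    rfl
  -- the kernel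
  have hker : Nat.card f.ker ∣ 3 := by
    have h1 : Nat.card f.ker ∣ Nat.card (center (SU 6 F 2)) := by
      have h2 : f.ker.map (psi F) ≤ center (SU 6 F 2) := by
        rintro _ ⟨a, ha, rfl⟩
        exact pr_eq_one_iff.1 ha
      rw [← Subgroup.card_map_of_injective (f := psi F) psi_injective]
      exact card_dvd_of_le h2
    rw [S0279.result hF 6 (by norm_num)] at h1
    exact h1
  have hrange : 648 * 648 ∣ 9 * Nat.card f.range := by
    have h1 : Nat.card f.ker * Nat.card f.range = Nat.card (dd2 F).ker := by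
      rw [← Subgroup.index_ker, Subgroup.card_mul_index]
    have h2 := dvd_card_psi hF
    rw [← h1] at h2
    refine h2.trans ?_
    have h3 : 3 * (Nat.card f.ker * Nat.card f.range) ∣ 3 * (3 * Nat.card f.range) :=
      Nat.mul_dvd_mul_left 3 (Nat.mul_dvd_mul_right hker _)
    rwa [← mul_assoc 3 3] at h3
  have hdvd : 648 * 72 ∣ Nat.card f.range := by
    have h1 : 9 * (648 * 72) ∣ 9 * Nat.card f.range := hrange
    exact Nat.dvd_of_mul_dvd_mul_left (by norm_num) h1
  have hle : f.range ≤ centralizer ({f (zz hw3)} : Set (PSU 6 F 2)) := by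
    rintro _ ⟨a, rfl⟩
    rw [mem_centralizer_singleton_iff, ← map_mul, ← map_mul, zz_comm]
  have hC : 648 * 72 ∣ Nat.card (centralizer ({f (zz hw3)} : Set (PSU 6 F 2))) := hdvd.trans (card_dvd_of_le hle)
  refine ⟨f (zz hw3), ?_, by rw [← map_pow, hz3, map_one], (by norm_num : 3 ^ 6 ∣ 648 * 72).trans hC,
    (by norm_num : 2 ^ 5 ∣ 648 * 72).trans hC⟩
  intro h0
  have h1 : psi F (zz hw3) ∈ center (SU 6 F 2) := pr_eq_one_iff.1 h0
  have hact : ∀ (u : Fin 6 → F) (i : Fin 3 ⊕ Fin 3), act (psi F (zz hw3)) u (e33 i) =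
      Sum.elim (fun j => w * u (e33 (.inl j))) (fun j => u (e33 (.inr j))) i := by
    intro u i
    have h2 := blockHom_mulVec e33 (scalar (Fin 3) w) (1 : Matrix (Fin 3) (Fin 3) F) u i
    change (blockHom F e33 (scalar (Fin 3) w, (1 : Matrix (Fin 3) (Fin 3) F)) *ᵥ u) (e33 i) = _
    rw [h2]
    rcases i with i | i
    · rw [Sum.elim_inl, Sum.elim_inl, Matrix.scalar_apply, mulVec_diagonal]
    · rw [Sum.elim_inr, Sum.elim_inr, one_mulVec]
  have h2 : psi F (zz hw3) = 1 := by
    refine eq_one_of_center_of_fix hF (by norm_num) h1 (w := Pi.single (e33 (.inr 0)) 1) ?_ ?_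
    · intro h0
      have := congrFun h0 (e33 (.inr 0))
      rw [Pi.single_eq_same] at this
      exact one_ne_zero this
    · funext k
      obtain ⟨i, rfl⟩ := e33.surjective k
      rw [hact]
      rcases i with i | i
      · have hne : e33 (.inl i) ≠ e33 (.inr 0) := fun h => absurd (e33.injective h) (by simp)
        rw [Sum.elim_inl, Pi.single_eq_of_ne hne, mul_zero]
      · rw [Sum.elim_inr]
  have h3 := hact (Pi.single (e33 (.inl 0)) 1) (.inl 0)
  rw [h2, act_one, Sum.elim_inl, Pi.single_eq_same, mul_one] at h3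
  exact hw1 h3.symm

/-- no `PSU_n(q)` -/
theorem not {K : Type*} [Group K] (hK : Cond K) (h : Cfsg.IsPSU K) : False := by
  obtain ⟨F, _, _, n, q, hF, hn, -, ⟨e⟩⟩ := h
  by_cases h3 : q % 3 = 0
  · exact char3 hK hF hn h3 e
  · obtain ⟨rfl, h2⟩ := small hK hF hn h3 e
    have hq : 2 ≤ q := two_le hF
    rcases Nat.lt_or_ge 2 q with h | h
    · exact six_big hK hF h2 h e
    · have hqe : q = 2 := by omega
      subst hqe
      obtain ⟨z, hz1, hz3, h6, h25⟩ := exists_z hF
      exact (hK.congr e).cz2 z hz1 hz3 h6 h25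

end Cfsg.Agent.H846.Elim.PSU
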