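import Cfsg.Agent.H846.Elim.Basic
import Cfsg.Agent.Sigma.Symp

/-!
# `Cond` and commuting subgroups `SL_2(q)` (helper846)
-/

set_option autoImplicit false

namespace Cfsg.Agent.H846.Elim

open Subgroup Matrix
open Cfsg.Agent.Sigma.Symp (three three_pow upper coe_upper dia coe_dia dia_mul dia_one dia_pow upper_injective dia_upper)

variable {F : Type*} [Field F]

abbrev SL2 (F : Type*) [Field F] := Matrix.SpecialLinearGroup (Fin 2) F

/-- the elementary matrix -/
abbrev up1 (F : Type*) [Field F] : SL2 F := upper F (Multiplicative.ofAdd 1)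

/-- the commutator of `up1` and `three` -/
def cc (F : Type*) [Field F] : SL2 F := ⟨!![2, 1; 1, 1], by simp [Matrix.det_fin_two]; norm_num⟩

theorem cc_eq : up1 F * three F = cc F * (three F * up1 F) := by
  apply Subtype.ext
  simp only [Matrix.SpecialLinearGroup.coe_mul, coe_upper]
  simp only [cc, three]
  ext i j
  fin_cases i <;> fin_cases j <;> simp [Matrix.mul_apply, Fin.sum_univ_two] <;> norm_num

theorem ne_of_entry {c : SL2 F} (h : (c : Matrix (Fin 2) (Fin 2) F) 0 1 ≠ 0) : ¬ (c = 1 ∨ c = -1) := by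
  rintro (rfl | rfl)
  · exact h (by simp)
  · exact h (by simp)

theorem cc_ne : ¬ (cc F = 1 ∨ cc F = -1) := ne_of_entry (by simp [cc])

theorem up1_ne : ¬ (up1 F = 1 ∨ up1 F = -1) := ne_of_entry (by rw [coe_upper]; simp)

theorem single_comm {ι M : Type*} [DecidableEq ι] [Group M] (i : ι) {a b : M} (h : a * b = b * a) :
    (Pi.mulSingle i a : ι → M) * Pi.mulSingle i b = Pi.mulSingle i b * Pi.mulSingle i a := by
  rw [← Pi.mulSingle_mul, ← Pi.mulSingle_mul, h]

theorem three_ne {h3 : Fintype F} (h : Fintype.card F % 3 ≠ 0) : (3 : F) ≠ 0 := by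
  intro h0
  obtain ⟨p, hp⟩ := CharP.exists F
  have hpp : Fact p.Prime := ⟨CharP.char_is_prime F p⟩
  have h1 : ((3 : ℕ) : F) = 0 := by exact_mod_cast h0
  rw [CharP.cast_eq_zero_iff F p] at h1
  have h2 := (Nat.prime_dvd_prime_iff_eq hpp.out Nat.prime_three).1 h1
  subst h2
  obtain ⟨n, hn, hc⟩ := FiniteField.card F 3
  rw [hc] at h
  apply h
  have : (3 : ℕ) ∣ 3 ^ (n : ℕ) := dvd_pow_self 3 n.pos.ne'
  exact Nat.mod_eq_zero_of_dvd this

variable {K : Type*} [Group K]

/-- four commuting copies of a group -/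
theorem four_of_pi' {ι M : Type*} [DecidableEq ι] [Group M] (j : Fin 4 → ι) (hj : Function.Injective j)
    (f : (ι → M) →* K) {x g c : M} (hx : x ^ 3 = 1) (hc : g * x = c * (x * g))
    (hf : ∀ i, f (Pi.mulSingle i c) ≠ 1) :
    Four (fun i => f (Pi.mulSingle (j i) x)) (fun i => MulAut.conj (f (Pi.mulSingle (j i) g))) where
  cube i := by rw [← map_pow, ← Pi.mulSingle_pow, hx, Pi.mulSingle_one, map_one]
  comm i k := by
    rcases eq_or_ne i k with rfl | hik
    · rfl
    · rw [← map_mul, ← map_mul]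
      congr 1
      exact (Pi.mulSingle_commute (hj.ne hik) _ _).eq
  fix i k hik := by
    change f (Pi.mulSingle (j i) g) * f (Pi.mulSingle (j k) x) * (f (Pi.mulSingle (j i) g))⁻¹ = _
    rw [← map_mul, (Pi.mulSingle_commute (hj.ne hik) _ _).eq, map_mul, mul_assoc, mul_inv_cancel, mul_one]
  move i := by
    intro h
    change f (Pi.mulSingle (j i) g) * f (Pi.mulSingle (j i) x) * (f (Pi.mulSingle (j i) g))⁻¹ = _ at h
    rw [mul_inv_eq_iff_eq_mul, ← map_mul, ← map_mul, ← Pi.mulSingle_mul, ← Pi.mulSingle_mul, hc,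
      Pi.mulSingle_mul, map_mul] at h
    have h1 : f (Pi.mulSingle (j i) c) = 1 := by
      have := mul_right_cancel (a := f (Pi.mulSingle (j i) c)) (c := 1) (by rw [one_mul]; exact h)
      exact this
    exact hf _ h1

/-- four commuting copies of `SL_2(q)` -/
theorem four_of_pi {ι : Type*} [DecidableEq ι] (j : Fin 4 → ι) (hj : Function.Injective j)
    (f : (ι → SL2 F) →* K) (hf : ∀ i (c : SL2 F), f (Pi.mulSingle i c) = 1 → c = 1 ∨ c = -1) :
    Four (fun i => f (Pi.mulSingle (j i) (three F))) (fun i => MulAut.conj (f (Pi.mulSingle (j i) (up1 F)))) :=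
  four_of_pi' j hj f three_pow cc_eq fun i h => cc_ne (hf i _ h)

/-- five commuting copies -/
theorem pi5 (hK : Cond K) (f : (Fin 5 → SL2 F) →* K)
    (hf : ∀ i (c : SL2 F), f (Pi.mulSingle i c) = 1 → c = 1 ∨ c = -1) : False := by
  have h4 := four_of_pi (F := F) (Fin.castSucc : Fin 4 → Fin 5) (Fin.castSucc_injective _) f hf
  refine h4.contra hK (y := f (Pi.mulSingle 4 (three F))) (φ := MulAut.conj (f (Pi.mulSingle 4 (up1 F)))) ?_ ?_ ?_
  · intro i
    rw [← map_mul, ← map_mul]
    congr 1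
    refine (Pi.mulSingle_commute ?_ _ _).eq
    intro h
    have := congrArg Fin.val h
    simp at this
    omega
  · intro i
    change f (Pi.mulSingle 4 (up1 F)) * f (Pi.mulSingle i.castSucc (three F)) * (f (Pi.mulSingle 4 (up1 F)))⁻¹ = _
    have hne : (4 : Fin 5) ≠ i.castSucc := by
      intro h
      have := congrArg Fin.val h
      simp at this
      omega
    rw [← map_mul, (Pi.mulSingle_commute hne _ _).eq, map_mul, mul_assoc, mul_inv_cancel, mul_one]
  · intro h
    change f (Pi.mulSingle 4 (up1 F)) * f (Pi.mulSingle 4 (three F)) * (f (Pi.mulSingle 4 (up1 F)))⁻¹ = _ at h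
    rw [mul_inv_eq_iff_eq_mul, ← map_mul, ← map_mul, ← Pi.mulSingle_mul, ← Pi.mulSingle_mul, cc_eq,
      Pi.mulSingle_mul, map_mul] at h
    have h1 : f (Pi.mulSingle 4 (cc F)) = 1 := by
      have := mul_right_cancel (a := f (Pi.mulSingle 4 (cc F))) (c := 1) (by rw [one_mul]; exact h)
      exact this
    exact cc_ne (hf _ _ h1)

/-- four copies with nontrivial `-1` -/
theorem pi4_odd (hK : Cond K) (f : (Fin 4 → SL2 F) →* K)
    (hf : ∀ i (c : SL2 F), f (Pi.mulSingle i c) = 1 → c = 1 ∨ c = -1) (h1 : f (Pi.mulSingle 0 (-1)) ≠ 1) : False := by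
  have h4 := four_of_pi (F := F) (id : Fin 4 → Fin 4) Function.injective_id f hf
  refine h4.contra_pow hK (y := f (Pi.mulSingle 0 (-1))) ?_ ?_
  · intro i
    rw [← map_mul, ← map_mul]
    congr 1
    rcases eq_or_ne 0 i with rfl | hi
    · exact single_comm 0 (by rw [neg_one_mul, mul_neg_one])
    · exact (Pi.mulSingle_commute hi _ _).eq
  · rw [← map_pow, ← Pi.mulSingle_pow]
    have : (-1 : SL2 F) ^ 3 = -1 := by
      rw [pow_succ, neg_one_sq, one_mul]
    rw [this]
    exact h1

/-- four copies, `q ≡ 1 (mod 3)` -/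
theorem pi4_one [Finite F] (hK : Cond K) (hq3 : ¬ 3 ∣ Nat.card F) (h3 : (3 : F) ≠ 0) {w : F}
    (hw : w ^ 2 + w + 1 = 0) (f : (Fin 4 → SL2 F) →* K)
    (hf : ∀ i (c : SL2 F), f (Pi.mulSingle i c) = 1 → c = 1 ∨ c = -1) : False := by
  have hw0 : w ≠ 0 := by
    rintro rfl
    simp at hw
  have hw3 : w ^ 3 = 1 := by linear_combination (w - 1) * hw
  have hw1 : w ^ 2 ≠ 1 := by
    intro h
    apply h3
    have h1 : w = -2 := by linear_combination hw - h
    rw [h1] at h
    linear_combination h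
  let u : Fˣ := Units.mk0 w hw0
  have hu3 : u ^ 3 = 1 := Units.ext (by rw [Units.val_pow_eq_pow_val, Units.val_mk0, hw3, Units.val_one])
  let e : SL2 F := dia u
  have he3 : e ^ 3 = 1 := by rw [dia_pow, hu3, dia_one]
  have hconj : ∀ t : F, e * upper F (Multiplicative.ofAdd t) * e⁻¹ = upper F (Multiplicative.ofAdd (w ^ 2 * t)) := by
    intro t
    rw [mul_inv_eq_iff_eq_mul, dia_upper]
    rfl
  -- the commutator of `up1` and `e`
  have hcomm : up1 F * e = upper F (Multiplicative.ofAdd (1 - w ^ 2)) * (e * up1 F) := by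
    have h1 := hconj 1
    rw [mul_inv_eq_iff_eq_mul, mul_one] at h1
    rw [h1, ← mul_assoc, ← map_mul, ← ofAdd_add, sub_add_cancel]
  have hne : ∀ t : F, t ≠ 0 → ¬ (upper F (Multiplicative.ofAdd t) = 1 ∨ upper F (Multiplicative.ofAdd t) = -1) := by
    intro t ht
    apply ne_of_entry
    rw [coe_upper]
    simpa using ht
  have h4 := four_of_pi' (id : Fin 4 → Fin 4) Function.injective_id f he3 hcomm
    (fun i h => hne _ (sub_ne_zero.2 (Ne.symm hw1)) (hf i _ h))
  -- the unipotent group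
  let g : Multiplicative F →* K := (f.comp (MonoidHom.mulSingle (fun _ : Fin 4 => SL2 F) 0)).comp (upper F)
  have hg : ∀ t : F, g (Multiplicative.ofAdd t) = f (Pi.mulSingle 0 (upper F (Multiplicative.ofAdd t))) := fun t => rfl
  refine h4.contra_prime hK (U := g.range) ?_ ?_ ?_
  · intro h
    apply hq3
    have h1 : Nat.card g.range ∣ Nat.card (Multiplicative F) := by
      rw [← Subgroup.index_ker]
      exact Subgroup.index_dvd_card _
    exact h.trans h1
  · intro h
    have h1 : g (Multiplicative.ofAdd 1) ∈ g.range := ⟨_, rfl⟩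
    rw [h, mem_bot, hg] at h1
    exact hne 1 one_ne_zero (hf 0 _ h1)
  · rintro i _ ⟨t, rfl⟩
    change f (Pi.mulSingle i e) * f (Pi.mulSingle 0 (upper F t)) * (f (Pi.mulSingle i e))⁻¹ ∈ g.range
    rcases eq_or_ne i 0 with rfl | hi
    · rw [← map_mul, ← map_inv, ← map_mul]
      refine ⟨Multiplicative.ofAdd (w ^ 2 * t.toAdd), ?_⟩
      rw [hg]
      congr 1
      have h1 := hconj t.toAdd
      rw [ofAdd_toAdd] at h1
      rw [← h1, Pi.mulSingle_mul, Pi.mulSingle_mul, Pi.mulSingle_inv]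
    · have h1 : f (Pi.mulSingle i e) * f (Pi.mulSingle 0 (upper F t)) =
          f (Pi.mulSingle 0 (upper F t)) * f (Pi.mulSingle i e) := by
        rw [← map_mul, ← map_mul]
        congr 1
        exact (Pi.mulSingle_commute hi _ _).eq
      rw [h1, mul_assoc, mul_inv_cancel, mul_one]
      exact ⟨t, rfl⟩

end Cfsg.Agent.H846.Elim
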